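import Cfsg.Agent.Lib.Classical.OrthPrime.Descent

/-!
# Monomial orthogonal groups in odd dimension
-/

set_option autoImplicit false

namespace CfsgLib.Classical.OrthPrime

open Matrix Cfsg Cfsg.Geo CfsgLib.Classical.AschPrime
open scoped MatrixGroups

variable {n : ℕ} {F : Type*} [Field F] {Q : (Fin n → F) → F}

/-- Lines carrying distinct characters of an orthogonal normal subgroup are orthogonal, and
pairwise isometric when the group permutes them irreducibly. -/
theorem decomp_orthogonal (hQ : IsNondegenerateQuadraticForm Q) (hodd : Odd n)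
    {H N : Subgroup (GL (Fin n) F)} (hH : H ≤ Cfsg.isometryGroup F Q) (hN : N ≤ H)
    (hirr : ActsIrreducibly (matrixSet H))
    {D : Fin n → Submodule F (Fin n → F)} (hD : IsMDecomposition 1 D)
    (hle : H ≤ decompositionStabilizer D) {χ : Fin n → N → F} (hχ : Function.Injective χ)
    (heig : ∀ (x : N) i, ∀ v ∈ D i, (x.1 : Mat n F) *ᵥ v = χ i x • v) :
    IsOrthogonalMDecomposition Q 1 D ∧
      ∀ i j, ∃ h ∈ H, (D i).map (Matrix.toLin' (h : Mat n F)) = D j := by
  classical
  have hs := hQ.polar_bilinear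
  let R : Fin n → Fin n → Prop := fun i j => ∃ u ∈ D i, ∃ v ∈ D j, QuadraticMap.polar Q u v ≠ 0
  have hR : ∀ i j, R i j → ∀ x : N, χ i x * χ j x = 1 := by
    rintro i j ⟨u, hu, v, hv, hne⟩ x
    have h := polar_isometry (hH (hN x.2)) u v
    rw [heig x i u hu, heig x j v hv, hs.smul_left, hs.smul_right, ← mul_assoc] at h
    exact mul_right_cancel₀ hne (h.trans (one_mul _).symm)
  have huniq : ∀ i j k, R i j → R i k → j = k := by
    intro i j k hj hk
    refine hχ (funext fun x => ?_)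
    have h := (hR i j hj x).trans (hR i k hk x).symm
    refine mul_left_cancel₀ (fun e => ?_) h
    have := hR i j hj x
    rw [e, zero_mul] at this
    exact zero_ne_one this
  have hline : ∀ i, ∃ v ∈ D i, v ≠ 0 := fun i =>
    Submodule.exists_mem_ne_zero_of_ne_bot fun e => by
      have := hD.finrank_eq i
      rw [e, finrank_bot] at this
      exact absurd this (by norm_num)
  have hex : ∀ i, ∃ j, R i j := by
    intro i
    obtain ⟨u, hu, hu0⟩ := hline i
    obtain ⟨x, hx⟩ := (hQ.nondegenerate u hu0).2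
    by_contra hno
    push Not at hno
    refine hx ?_
    clear hx
    have hxm : x ∈ iSup D := hD.iSup_eq_top ▸ Submodule.mem_top
    induction hxm using Submodule.iSup_induction' with
    | mem j v hv =>
      by_contra h
      exact hno j ⟨u, hu, v, hv, h⟩
    | zero => simpa using hs.smul_right 0 u 0
    | add a b _ _ iha ihb => rw [hs.add_right, iha, ihb, add_zero]
  choose π hπ using hex
  have hRsymm : ∀ i j, R i j → R j i := by
    rintro i j ⟨u, hu, v, hv, hne⟩
    exact ⟨v, hv, u, hu, fun e => hne (by rw [QuadraticMap.polar_comm]; exact e)⟩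
  have hinv : ∀ i, π (π i) = i := fun i => huniq _ _ _ (hπ _) (hRsymm _ _ (hπ i))
  let P : Equiv.Perm (Fin n) := Function.Involutive.toPerm π hinv
  haveI : Fact (Nat.Prime 2) := ⟨Nat.prime_two⟩
  obtain ⟨i₀, hi₀⟩ := Equiv.Perm.exists_fixed_point_of_prime (p := 2) (n := 1) (σ := P)
    (by rw [Fintype.card_fin]; exact hodd.not_two_dvd_nat)
    (by rw [pow_one, pow_two]; exact Equiv.ext fun i => hinv i)
  -- invariant spans of sets of lines are everything
  have hall' : ∀ p : Fin n → Prop, (∀ h ∈ H, ∀ τ : Equiv.Perm (Fin n),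
      (∀ i, (D i).map (Matrix.toLin' (h : Mat n F)) = D (τ i)) → ∀ i, p i → p (τ i)) →
      (∃ i, p i) → ∀ k, p k := by
    intro p hp hne k
    let W : Submodule F (Fin n → F) := ⨆ i : {i // p i}, D i.1
    have hW := irr_iff.mp hirr W (by
      rintro _ ⟨h, hh, rfl⟩ v hv
      obtain ⟨τ, hτ⟩ := hle hh
      induction hv using Submodule.iSup_induction' with
      | mem i v hv =>
        refine Submodule.mem_iSup_of_mem ⟨τ i.1, hp h hh τ hτ i.1 i.2⟩ ?_
        change _ ∈ D (τ i.1)
        rw [← hτ]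
        exact ⟨v, hv, by simp⟩
      | zero => simp
      | add a b _ _ iha ihb => rw [Matrix.mulVec_add]; exact add_mem iha ihb)
    have htop : W = ⊤ := hW.resolve_left fun e => by
      obtain ⟨i, hi⟩ := hne
      obtain ⟨v, hv, hv0⟩ := hline i
      have : v ∈ W := Submodule.mem_iSup_of_mem ⟨i, hi⟩ hv
      rw [e, Submodule.mem_bot] at this
      exact hv0 this
    by_contra hk
    have hle' : W ≤ ⨆ j, ⨆ _ : j ≠ k, D j :=
      iSup_le fun i => le_iSup₂ (f := fun j (_ : j ≠ k) => D j) i.1 fun e => hk (e ▸ i.2)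
    have h := eq_bot_iff.mpr ((le_inf le_rfl (le_top.trans (htop.ge.trans hle'))).trans
      (disjoint_iff.mp (hD.indep k)).le)
    have := hD.finrank_eq k
    rw [h, finrank_bot] at this
    exact absurd this (by norm_num)
  have hfix : ∀ k, π k = k := hall' (fun i => π i = i) (fun h hh τ hτ i hi => by
    refine huniq _ _ _ (hπ _) ?_
    obtain ⟨a, ha, b, hb, hab⟩ := hπ i
    rw [hi] at hb
    refine ⟨(h : Mat n F) *ᵥ a, ?_, (h : Mat n F) *ᵥ b, ?_, ?_⟩
    · rw [← hτ]; exact ⟨a, ha, by simp⟩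
    · rw [← hτ]; exact ⟨b, hb, by simp⟩
    · intro e
      exact hab ((polar_isometry (hH hh) a b).symm.trans e)) ⟨i₀, hi₀⟩
  have htrans : ∀ i j, ∃ h ∈ H, (D i).map (Matrix.toLin' (h : Mat n F)) = D j := by
    intro i
    refine hall' (fun j => ∃ h ∈ H, (D i).map (Matrix.toLin' (h : Mat n F)) = D j) ?_
      ⟨i, 1, H.one_mem, by simp⟩
    rintro g hg τ hτ j ⟨h, hh, e⟩
    exact ⟨g * h, H.mul_mem hg hh, by
      rw [Units.val_mul, Matrix.toLin'_mul, Submodule.map_comp, e, hτ]⟩
  refine ⟨⟨⟨hD, fun i w hw hw0 => ?_, fun i j hij u hu v hv => ?_⟩, fun i j => ?_⟩, htrans⟩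
  · obtain ⟨a, ha, b, hb, hab⟩ := hπ i
    rw [hfix] at hb
    have hmul : ∀ x ∈ D i, ∃ c : F, x = c • w := fun x hx => by
      obtain ⟨c, hc'⟩ := exists_smul_eq_of_finrank_eq_one (hD.finrank_eq i)
        (x := (⟨w, hw⟩ : D i)) (fun e => hw0 (congrArg Subtype.val e)) ⟨x, hx⟩
      exact ⟨c, (congrArg Subtype.val hc').symm⟩
    have hww : QuadraticMap.polar Q w w ≠ 0 := fun e => by
      obtain ⟨c, rfl⟩ := hmul a ha
      obtain ⟨d, rfl⟩ := hmul b hb
      exact hab (by rw [hs.smul_left, hs.smul_right, e, mul_zero, mul_zero])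
    exact ⟨⟨w, hw, hww⟩, ⟨w, hw, hww⟩⟩
  · by_contra hne
    have := huniq _ _ _ (hπ i) ⟨u, hu, v, hv, hne⟩
    rw [hfix] at this
    exact hij this
  · obtain ⟨h, hh, e⟩ := htrans i j
    refine ⟨((Matrix.toLinearEquiv' (h : Mat n F) h.invertible).submoduleMap (D i)).trans
      (LinearEquiv.ofEq _ _ ?_), fun w => ?_⟩
    · rw [← e]; rfl
    · exact (hH hh) (w : Fin n → F) (w : Fin n → F)

/-- Over a field that is not prime, a monomial orthogonal group lies in a subfield group. -/
theorem monomial_subfield [Fintype F] (hQ : IsNondegenerateQuadraticForm Q) (h2 : (2 : F) ≠ 0)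
    (hodd : Odd n) (hd : ∀ F₁ : Subfield F, ∃ d0 ∈ F₁, ∃ s : F, (pgram Q).det = d0 * s ^ 2)
    {H : Subgroup (GL (Fin n) F)} (hH : H ≤ Cfsg.isometryGroup F Q)
    {D : Fin n → Submodule F (Fin n → F)} (hD : IsOrthogonalMDecomposition Q 1 D)
    (hle : H ≤ decompositionStabilizer D)
    (htrans : ∀ i j, ∃ h ∈ H, (D i).map (Matrix.toLin' (h : Mat n F)) = D j)
    {F₁ : Subfield F} :
    ∃ P : GL (Fin n) F, IsQuadFormRationalStructure Q F₁ P ∧ H ≤ subfieldSubgroup F₁ P := by
  classical
  have hs := hQ.polar_bilinear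
  let i₀ : Fin n := ⟨0, hodd.pos⟩
  obtain ⟨v₀, hv₀, hv₀0⟩ := Submodule.exists_mem_ne_zero_of_ne_bot (p := D i₀) fun e => by
    have := hD.decomp.decomp.finrank_eq i₀
    rw [e, finrank_bot] at this
    exact absurd this (by norm_num)
  choose g hg hgD using htrans i₀
  let b : Fin n → (Fin n → F) := fun j => (g j : Mat n F) *ᵥ v₀
  have hb : ∀ j, b j ∈ D j := fun j => by
    rw [← hgD j]; exact ⟨v₀, hv₀, by simp [b]⟩
  have hb0 : ∀ j, b j ≠ 0 := fun j e => hv₀0 (Matrix.mulVec_injective_iff_isUnit.2 (g j).isUnit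
    (e.trans (Matrix.mulVec_zero _).symm))
  have hli : LinearIndependent F b :=
    hD.decomp.decomp.indep.linearIndependent D hb hb0
  have hspan : ∀ j, D j = F ∙ b j := fun j =>
    (Submodule.eq_of_le_of_finrank_le ((Submodule.span_singleton_le_iff_mem _ _).mpr (hb j))
      (by rw [hD.decomp.decomp.finrank_eq j, finrank_span_singleton (hb0 j)])).symm
  set a := QuadraticMap.polar Q v₀ v₀ with ha
  have hbb : ∀ i j, QuadraticMap.polar Q (b i) (b j) = if i = j then a else 0 := by
    intro i j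
    split
    · subst_vars; exact polar_isometry (hH (hg j)) v₀ v₀
    · exact hD.decomp.orthogonal i j (by assumption) _ (hb i) _ (hb j)
  have ha0 : a ≠ 0 := by
    obtain ⟨⟨x, hx, hxv⟩, -⟩ := hD.decomp.nondegenerate i₀ v₀ hv₀ hv₀0
    rw [hspan i₀] at hx
    intro e
    obtain ⟨c, rfl⟩ := Submodule.mem_span_singleton.mp hx
    obtain ⟨c', hc'⟩ := Submodule.mem_span_singleton.mp (hspan i₀ ▸ hv₀ : v₀ ∈ F ∙ b i₀)
    apply hxv
    rw [← hc', hs.smul_left, hs.smul_right, hbb, if_pos rfl, e]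
    ring
  obtain ⟨Pu, hPu⟩ : IsUnit (Matrix.of fun i j => b j i : Mat n F) := by
    rw [← Matrix.linearIndependent_cols_iff_isUnit]; exact hli
  have hrat : ∀ h ∈ H, RatAt F₁ Pu⁻¹ h := by
    intro h hh
    obtain ⟨τ, hτ⟩ := hle hh
    have hc : ∀ j, ∃ c : F, c • b (τ j) = (h : Mat n F) *ᵥ b j := fun j => by
      have h1 : (h : Mat n F) *ᵥ b j ∈ D (τ j) := by
        rw [← hτ j]; exact ⟨b j, hb j, by simp⟩
      rw [hspan (τ j)] at h1
      exact Submodule.mem_span_singleton.mp h1
    choose c hc using hc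
    have hc2 : ∀ j, c j ∈ F₁ := fun j => by
      have e := polar_isometry (hH hh) (b j) (b j)
      rw [← hc j, hs.smul_left, hs.smul_right, hbb, hbb, if_pos rfl, if_pos rfl] at e
      have : (c j - 1) * (c j + 1) = 0 := by
        refine (mul_eq_zero.mp (?_ : (c j - 1) * (c j + 1) * a = 0)).resolve_right ha0
        linear_combination e
      rcases mul_eq_zero.mp this with h' | h'
      · rw [sub_eq_zero.mp h']; exact F₁.one_mem
      · rw [eq_neg_of_add_eq_zero_left h']; exact F₁.neg_mem F₁.one_mem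
    have hhP : (h : Mat n F) * (Pu : Mat n F) =
        (Pu : Mat n F) * Matrix.of fun i j => if i = τ j then c j else 0 := by
      rw [hPu]
      ext x k
      rw [show ((h : Mat n F) * (Matrix.of fun i j => b j i)) x k = ((h : Mat n F) *ᵥ b k) x from rfl,
        ← hc k, Matrix.mul_apply]
      simp [mul_comm]
    intro i j
    rw [inv_inv, Units.val_mul, Units.val_mul, mul_assoc, hhP, ← mul_assoc, Units.inv_mul, one_mul,
      Matrix.of_apply]
    split
    · exact hc2 j
    · exact F₁.zero_mem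
  obtain ⟨d0, hd0, s, hs'⟩ := hd F₁
  obtain ⟨P, hP, hPB⟩ := rational_structure hodd hQ h2 Pu⁻¹ hd0 hs' (a := a) (G₀ := 1)
    (fun i j => by rw [Matrix.one_apply]; split <;> [exact F₁.one_mem; exact F₁.zero_mem]) (by
      rw [inv_inv, hPu]
      ext i j
      rw [mul_assoc, Matrix.mul_apply, Matrix.smul_apply, Matrix.one_apply]
      trans QuadraticMap.polar Q (b i) (b j)
      · rw [polar_eq hQ, dotProduct]
        rfl
      · rw [hbb]; split <;> simp)
  exact ⟨P, hP, hPB.symm ▸ fun h hh => mem_subfield_of_rat (hrat h hh)⟩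

end CfsgLib.Classical.OrthPrime
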