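import Cfsg.Agent.Lib.Classical.OrthPrime.Descent

/-!
# Reducible and monomial orthogonal groups in odd dimension
-/

set_option autoImplicit false

namespace CfsgLib.Classical.OrthPrime

open Matrix Cfsg Cfsg.Geo CfsgLib.Classical.AschPrime
open scoped MatrixGroups

variable {n : ℕ} {F : Type*} [Field F] {Q : (Fin n → F) → F}

/-- The polar form as a bilinear form. -/
noncomputable def pbil (Q : (Fin n → F) → F) : LinearMap.BilinForm F (Fin n → F) :=
  Matrix.toBilin' (pgram Q)

/-- The orthogonal of a subspace. -/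
noncomputable def perp (Q : (Fin n → F) → F) (W : Submodule F (Fin n → F)) :
    Submodule F (Fin n → F) :=
  (pbil Q).orthogonal W

section Perp

variable (hQ : IsNondegenerateQuadraticForm Q)
include hQ

theorem pbil_apply (u v : Fin n → F) : pbil Q u v = QuadraticMap.polar Q u v := by
  rw [pbil, Matrix.toBilin'_apply', polar_eq hQ]

theorem pbil_refl : (pbil Q).IsRefl := fun u v h => by
  rw [pbil_apply hQ] at h ⊢; rwa [QuadraticMap.polar_comm]

theorem pbil_nondeg [Finite F] : (pbil Q).Nondegenerate :=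
  LinearMap.BilinForm.nondegenerate_toBilin'_of_det_ne_zero' _ (det_pgram_ne hQ)

theorem mem_perp {W : Submodule F (Fin n → F)} {v : Fin n → F} :
    v ∈ perp Q W ↔ ∀ w ∈ W, QuadraticMap.polar Q w v = 0 := by
  simp [perp, LinearMap.BilinForm.mem_orthogonal_iff, LinearMap.BilinForm.IsOrtho, pbil_apply hQ]

theorem finrank_perp [Finite F] (W : Submodule F (Fin n → F)) :
    Module.finrank F (perp Q W) + Module.finrank F W = n := by
  rw [perp, LinearMap.BilinForm.finrank_orthogonal (pbil_nondeg hQ)]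
  have h := W.finrank_le
  rw [Module.finrank_fintype_fun_eq_card, Fintype.card_fin] at h ⊢
  omega

theorem perp_perp [Finite F] (W : Submodule F (Fin n → F)) : perp Q (perp Q W) = W :=
  LinearMap.BilinForm.orthogonal_orthogonal (pbil_nondeg hQ) (pbil_refl hQ) W

theorem perp_invariant {W : Submodule F (Fin n → F)} {g : GL (Fin n) F}
    (hg : g ∈ Cfsg.isometryGroup F Q) (hW : ∀ v ∈ W, ((g⁻¹ : GL (Fin n) F) : Mat n F) *ᵥ v ∈ W) :
    ∀ v ∈ perp Q W, (g : Mat n F) *ᵥ v ∈ perp Q W := by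
  intro v hv
  rw [mem_perp hQ] at hv ⊢
  intro w hw
  have h := polar_isometry hg (((g⁻¹ : GL (Fin n) F) : Mat n F) *ᵥ w) v
  rw [Matrix.mulVec_mulVec, Units.mul_inv, Matrix.one_mulVec] at h
  rw [h, hv _ (hW w hw)]

theorem nondeg_of_disjoint {W : Submodule F (Fin n → F)} (h : W ⊓ perp Q W = ⊥) :
    IsNondegenerateOn (QuadraticMap.polar Q) W := by
  intro w hw hw0
  obtain ⟨x, hx, hxw⟩ : ∃ x ∈ W, QuadraticMap.polar Q x w ≠ 0 := by
    by_contra hall
    push Not at hall
    exact hw0 (by rw [← Submodule.mem_bot F, ← h]; exact ⟨hw, (mem_perp hQ).mpr hall⟩)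
  exact ⟨⟨x, hx, hxw⟩, ⟨x, hx, by rwa [QuadraticMap.polar_comm]⟩⟩

end Perp

/-- The exceptional pair: a hyperbolic plane over the field of three elements. -/
def Bad [Fintype F] (Q : (Fin n → F) → F) (W : Submodule F (Fin n → F)) : Prop :=
  Fintype.card F = 3 ∧ Module.finrank F W = 2 ∧ IsPlusTypeOn Q W

/-- An invariant subspace gives a totally singular one, or a non-degenerate even-dimensional one
that is not exceptional. -/
theorem reducible_cases [Fintype F] (hQ : IsNondegenerateQuadraticForm Q) (h2 : (2 : F) ≠ 0)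
    (hn : 5 ≤ n) (hodd : Odd n) {H : Subgroup (GL (Fin n) F)} (hH : H ≤ Cfsg.isometryGroup F Q)
    {W : Submodule F (Fin n → F)} (h0 : W ≠ ⊥) (h1 : W ≠ ⊤)
    (hW : ∀ h ∈ H, ∀ v ∈ W, (h : Mat n F) *ᵥ v ∈ W) :
    (∃ U : Submodule F (Fin n → F), U ≠ ⊥ ∧ U ≠ ⊤ ∧ IsTotallySingularQuad Q U ∧
        H ≤ subspaceStabilizer U) ∨
    (∃ U : Submodule F (Fin n → F), U ≠ ⊥ ∧ U ≠ ⊤ ∧ Even (Module.finrank F U) ∧
        IsNondegenerateOn (QuadraticMap.polar Q) U ∧ ¬ Bad Q U ∧ H ≤ subspaceStabilizer U) := by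
  classical
  have hperp : ∀ {U : Submodule F (Fin n → F)}, (∀ h ∈ H, ∀ v ∈ U, (h : Mat n F) *ᵥ v ∈ U) →
      ∀ h ∈ H, ∀ v ∈ perp Q U, (h : Mat n F) *ᵥ v ∈ perp Q U := fun hU h hh =>
    perp_invariant hQ (hH hh) (hU h⁻¹ (H.inv_mem hh))
  by_cases hb : W ⊓ perp Q W = ⊥
  swap
  · left
    refine ⟨W ⊓ perp Q W, hb, fun e => h1 (top_le_iff.mp (e ▸ inf_le_left)), fun v hv => ?_,
      le_subspaceStabilizer fun h hh v hv => ⟨hW h hh v hv.1, hperp hW h hh v hv.2⟩⟩
    have e := (mem_perp hQ).mp hv.2 v hv.1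
    rw [polar_self hQ] at e
    exact (mul_eq_zero.mp e).resolve_left h2
  right
  -- a non-degenerate invariant subspace of even dimension
  obtain ⟨U, hU0, hU1, heven, hUinv, hUdis⟩ : ∃ U : Submodule F (Fin n → F), U ≠ ⊥ ∧ U ≠ ⊤ ∧
      Even (Module.finrank F U) ∧ (∀ h ∈ H, ∀ v ∈ U, (h : Mat n F) *ᵥ v ∈ U) ∧
      U ⊓ perp Q U = ⊥ := by
    rcases Nat.even_or_odd (Module.finrank F W) with he | ho
    · exact ⟨W, h0, h1, he, hW, hb⟩
    · have hr := finrank_perp hQ W
      refine ⟨perp Q W, fun e => h1 (Submodule.eq_top_of_finrank_eq ?_), fun e => ?_, ?_, hperp hW,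
        by rw [perp_perp hQ, inf_comm, hb]⟩
      · rw [e, finrank_bot, zero_add] at hr
        rw [hr, Module.finrank_fintype_fun_eq_card, Fintype.card_fin]
      · rw [e, finrank_top, Module.finrank_fintype_fun_eq_card, Fintype.card_fin] at hr
        exact h0 (Submodule.finrank_eq_zero.mp (by omega))
      · obtain ⟨a, ha⟩ := ho
        obtain ⟨b, hb'⟩ := hodd
        exact ⟨b - a, by omega⟩
  by_cases hbad : Bad Q U
  swap
  · exact ⟨U, hU0, hU1, heven, nondeg_of_disjoint hQ hUdis, hbad, le_subspaceStabilizer hUinv⟩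
  -- the anisotropic line fixed in the exceptional case
  obtain ⟨h3, hU2, T, hTU, hTs, hT⟩ := hbad
  have hnd := nondeg_of_disjoint hQ hUdis
  obtain ⟨e, he, he0⟩ := Submodule.exists_mem_ne_zero_of_ne_bot (p := T) fun e => by
    rw [e, finrank_bot] at hT; omega
  obtain ⟨⟨g, hg, hge⟩, -⟩ := hnd e (hTU he) he0
  set c := QuadraticMap.polar Q g e with hc
  have hpp := hQ.polar_bilinear
  have hQadd : ∀ u v, Q (u + v) = Q u + Q v + QuadraticMap.polar Q u v := fun u v => by
    simp only [QuadraticMap.polar]; ring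
  -- second singular vector, pairing to one
  set f := c⁻¹ • g + (-(c⁻¹ * c⁻¹ * Q g)) • e with hf
  have hfU : f ∈ U := U.add_mem (U.smul_mem _ hg) (U.smul_mem _ (hTU he))
  have hQf : Q f = 0 := by
    rw [hf, hQadd, hQ.smul, hQ.smul, hTs e he, hpp.smul_left, hpp.smul_right, ← hc]
    field_simp
    ring
  have hfe : QuadraticMap.polar Q e f = 1 := by
    rw [hf, hpp.add_right, hpp.smul_right, hpp.smul_right, polar_self hQ, hTs e he,
      QuadraticMap.polar_comm, ← hc, inv_mul_cancel₀ hge]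
    ring
  have hcomb : ∀ a b : F, Q (a • e + b • f) = a * b := fun a b => by
    rw [hQadd, hQ.smul, hQ.smul, hTs e he, hQf, hpp.smul_left, hpp.smul_right, hfe]; ring
  have hli : LinearIndependent F ![e, f] := by
    rw [LinearIndependent.pair_iff]
    intro a b hab
    have h1' := congrArg (fun v => QuadraticMap.polar Q v f) hab
    have h2' := congrArg (fun v => QuadraticMap.polar Q v e) hab
    simp only [hpp.add_left, hpp.smul_left, polar_self hQ, hQf, hTs e he,
      QuadraticMap.polar_comm Q f e, hfe] at h1' h2'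
    have hz : QuadraticMap.polar Q (0 : Fin n → F) f = 0 ∧ QuadraticMap.polar Q (0 : Fin n → F) e = 0 := by
      constructor <;> simp [QuadraticMap.polar, quad_zero hQ]
    rw [hz.1] at h1'
    rw [hz.2] at h2'
    exact ⟨by linear_combination h1', by linear_combination h2'⟩
  have hspanU : Submodule.span F (Set.range ![e, f]) = U := by
    refine Submodule.eq_of_le_of_finrank_le (Submodule.span_le.mpr ?_) ?_
    · rintro _ ⟨i, rfl⟩
      fin_cases i
      · exact hTU he
      · exact hfU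
    · rw [hU2, finrank_span_eq_card hli, Fintype.card_fin]
  set a := e + f with ha
  have hQa : Q a = 1 := by simpa [ha] using hcomb 1 1
  have hline : ∀ v ∈ U, Q v = 1 → v ∈ F ∙ a := by
    intro v hv hv1
    rw [← hspanU, Submodule.mem_span_range_iff_exists_fun] at hv
    obtain ⟨co, rfl⟩ := hv
    rw [Fin.sum_univ_two] at hv1 ⊢
    simp only [Matrix.cons_val_zero, Matrix.cons_val_one] at hv1 ⊢
    rw [hcomb] at hv1
    have hx : ∀ x : F, x ≠ 0 → x * x = 1 := fun x hx => by
      have := FiniteField.pow_card_sub_one_eq_one x hx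
      rw [h3] at this
      rwa [← pow_two]
    have e01 : co 0 = co 1 := by
      have := hx _ (left_ne_zero_of_mul (hv1.trans_ne one_ne_zero))
      linear_combination co 1 * this - co 0 * hv1
    rw [← e01, ← smul_add]
    exact Submodule.smul_mem _ _ (Submodule.mem_span_singleton_self _)
  have ha0 : a ≠ 0 := fun e0 => by rw [e0, quad_zero hQ] at hQa; exact zero_ne_one hQa
  have haU : a ∈ U := U.add_mem (hTU he) hfU
  set L := F ∙ a with hL
  have hLinv : ∀ h ∈ H, ∀ v ∈ L, (h : Mat n F) *ᵥ v ∈ L := by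
    intro h hh v hv
    obtain ⟨x, rfl⟩ := Submodule.mem_span_singleton.mp hv
    rw [Matrix.mulVec_smul]
    refine L.smul_mem _ (hline _ (hUinv h hh a haU) ?_)
    exact ((hH hh) a a).trans hQa
  have hLdis : L ⊓ perp Q L = ⊥ := by
    rw [Submodule.eq_bot_iff]
    rintro v ⟨hv, hv'⟩
    obtain ⟨x, rfl⟩ := Submodule.mem_span_singleton.mp hv
    have e1 := (mem_perp hQ).mp hv' a (Submodule.mem_span_singleton_self a)
    rw [hpp.smul_right, polar_self hQ, hQa, mul_one] at e1
    rw [(mul_eq_zero.mp e1).resolve_right h2, zero_smul]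
  have hLfin : Module.finrank F L = 1 := finrank_span_singleton ha0
  have hr := finrank_perp hQ L
  refine ⟨perp Q L, fun e0 => ?_, fun e0 => ?_, ?_,
    nondeg_of_disjoint hQ (by rw [perp_perp hQ, inf_comm, hLdis]), fun hb' => ?_,
    le_subspaceStabilizer (hperp hLinv)⟩
  · rw [e0, finrank_bot] at hr; omega
  · rw [e0, finrank_top, Module.finrank_fintype_fun_eq_card, Fintype.card_fin] at hr; omega
  · obtain ⟨b, hb'⟩ := hodd
    exact ⟨b, by omega⟩
  · have := hb'.2.1
    omega

end CfsgLib.Classical.OrthPrime
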