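import Cfsg.Agent.Lib.Classical.OrthPrime.Field
import Cfsg.Agent.Lib.Classical.OrthPrime.Reducible
import Cfsg.Agent.Lib.Classical.OrthPrime.Monomial
import Cfsg.Agent.Lib.Classical.AschPrime.AlmostSimple
import Cfsg.Agent.Lib.Classical.AschPrime.UnitaryCases

/-!
# Maximal subgroups of an orthogonal group in odd prime dimension

The ambient group is any irreducible group of isometries of determinant one containing a one
parameter family `1 + t N` with `N ^ 2 = 0`.
-/

set_option autoImplicit false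

namespace CfsgLib.Classical.OrthPrime

open Matrix Cfsg Cfsg.Geo CfsgLib.Classical.AschPrime
open scoped MatrixGroups commutatorElement

variable {n : ℕ} {F : Type*} [Field F] [Fintype F] {Q : (Fin n → F) → F}

/-- Where a proper subgroup can lie. -/
def Outcome (Q : (Fin n → F) → F) (H : Subgroup (GL (Fin n) F)) : Prop :=
  (∃ U : Submodule F (Fin n → F), U ≠ ⊥ ∧ U ≠ ⊤ ∧ IsTotallySingularQuad Q U ∧
      H ≤ subspaceStabilizer U) ∨
  (∃ U : Submodule F (Fin n → F), U ≠ ⊥ ∧ U ≠ ⊤ ∧ Even (Module.finrank F U) ∧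
      IsNondegenerateOn (QuadraticMap.polar Q) U ∧ ¬ Bad Q U ∧ H ≤ subspaceStabilizer U) ∨
  ((Fintype.card F).Prime ∧ ∃ D : Fin n → Submodule F (Fin n → F),
      IsOrthogonalMDecomposition Q 1 D ∧ H ≤ decompositionStabilizer D) ∨
  (∃ (F₀ : Subfield F) (r : ℕ) (P : GL (Fin n) F), r.Prime ∧ F₀ ≠ ⊤ ∧
      Fintype.card F = Nat.card F₀ ^ r ∧ IsQuadFormRationalStructure Q F₀ P ∧
      H ≤ subfieldSubgroup F₀ P) ∨
  InOrthogonalResidualClass H

/-- A field that is not prime has a proper subfield of prime index. -/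
theorem exists_prime_index_bot (hp : ¬ (Fintype.card F).Prime) :
    ∃ (F₁ : Subfield F) (l : ℕ), F₁ ≠ ⊤ ∧ l.Prime ∧ Fintype.card F = Nat.card F₁ ^ l := by
  classical
  obtain ⟨p, hcp⟩ := CharP.exists F
  obtain ⟨e, hpp, hcard⟩ := FiniteField.card F p
  have hbot : (⊥ : Subfield F) ≠ ⊤ := by
    intro htop
    haveI : Fact p.Prime := ⟨hpp⟩
    have hall : ∀ x : F, x ^ p = x := fun x => by
      have hle : (⊥ : Subfield F) ≤ RingHom.eqLocusField (frobenius F p) (RingHom.id F) := bot_le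
      have hx : x ∈ RingHom.eqLocusField (frobenius F p) (RingHom.id F) :=
        hle (htop ▸ Subfield.mem_top x)
      exact hx
    obtain ⟨u, hu⟩ := IsCyclic.exists_ofOrder_eq_natCard (α := Fˣ)
    have h1 : u ^ (p - 1) = 1 := by
      have h := hall (u : F)
      rw [← Nat.sub_add_cancel hpp.one_le, pow_succ] at h
      refine Units.ext ?_
      rw [Units.val_pow_eq_pow_val, Units.val_one]
      exact mul_right_cancel₀ u.ne_zero (h.trans (one_mul _).symm)
    have h2 := orderOf_dvd_of_pow_eq_one h1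
    rw [hu, Nat.card_units, Nat.card_eq_fintype_card, hcard] at h2
    have h3 := Nat.le_of_dvd (by have := hpp.two_le; omega) h2
    have he : (e : ℕ) = 1 := by
      by_contra hne
      have := Nat.pow_lt_pow_right hpp.one_lt (show 1 < (e : ℕ) by have := e.pos; omega)
      rw [pow_one] at this
      exact absurd ((Nat.sub_le_sub_iff_right hpp.one_le).1 h3) (not_le_of_gt this)
    exact hp (by rw [hcard, he, pow_one]; exact hpp)
  obtain ⟨F₁, l, -, h1, hl, hc⟩ := exists_prime_index _ hbot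
  exact ⟨F₁, l, h1, hl, hc⟩

variable (hQ : IsNondegenerateQuadraticForm Q) (h2 : (2 : F) ≠ 0) (hn : n.Prime) (hn5 : 5 ≤ n)
  (hd : ∀ F₁ : Subfield F, ∃ d0 ∈ F₁, ∃ s : F, (pgram Q).det = d0 * s ^ 2)

include hQ h2 hn hn5 hd in
/-- Aschbacher's theorem for orthogonal groups in odd prime dimension. -/
theorem outcome {H : Subgroup (GL (Fin n) F)} (hH : H ≤ Cfsg.isometryGroup F Q)
    (hsl : H ≤ specialLinear (Fin n) F) : Outcome Q H := by
  classical
  have hodd : Odd n := hn.odd_of_ne_two (by omega)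
  by_cases hirr : ActsIrreducibly (matrixSet H)
  swap
  · rw [irr_iff] at hirr
    push Not at hirr
    obtain ⟨W, hW, h0, h1⟩ := hirr
    rcases reducible_cases hQ h2 hn5 hodd hH h0 h1
      (fun h hh v hv => hW _ (mem_matrixSet hh) v hv) with h | h
    · exact .inl h
    · exact .inr (.inl h)
  by_cases hall : AllNormalAbsIrred H
  swap
  · simp only [AllNormalAbsIrred, not_forall] at hall
    obtain ⟨N, hN, hnorm, hN0, hnabs⟩ := hall
    rcases clifford hn hN hnorm hirr with hi | hs | ⟨D, hD, hle, -, χ, hχ, heig⟩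
    · exact absurd (le_scalars_of_field hn hodd hQ h2 (hN.trans hH) hi fun h => hnabs ⟨hi, h⟩) hN0
    · exact absurd hs hN0
    · obtain ⟨hDo, htr⟩ := decomp_orthogonal hQ hodd hH hN hirr hD hle hχ heig
      by_cases hp : (Fintype.card F).Prime
      · exact .inr (.inr (.inl ⟨hp, D, hDo, hle⟩))
      · obtain ⟨F₁, l, hne, hl, hcard⟩ := exists_prime_index_bot hp
        obtain ⟨P, hP, hHP⟩ := monomial_subfield hQ h2 hodd hd hH hDo hle htr (F₁ := F₁)
        exact .inr (.inr (.inr (.inl ⟨F₁, l, P, hl, hne, hcard, hP, hHP⟩)))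
  have hH0 : ¬ H ≤ scalars (Fin n) F := fun hle => by
    refine not_absIrred_of_comm hn.two_le (fun x hx y _ => scalars_comm (hle hx) y) ⟨hirr, ?_⟩
    intro M hM
    by_contra hne
    have hfield := commutant_field hn hirr fun h => hne (h M hM)
    have hmem : ∀ X : Mat n F, X ∈ Subalgebra.centralizer F (matrixSet H) := fun X => by
      rw [Subalgebra.mem_centralizer_iff]
      rintro _ ⟨x, hx, rfl⟩
      obtain ⟨c, hc⟩ := (mem_scalars_iff x).mp (hle hx)
      simp [hc]
    have hdim := hfield.finrank_eq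
    rw [show Subalgebra.centralizer F (matrixSet H) = ⊤ from eq_top_iff.mpr fun X _ => hmem X,
      Subalgebra.topEquiv.toLinearEquiv.finrank_eq, Module.finrank_matrix, Module.finrank_self,
      Fintype.card_fin] at hdim
    nlinarith [hn.two_le]
  have hex : ∃ d, ∃ L ≤ H, (∀ h ∈ H, ∀ x ∈ L, h * x * h⁻¹ ∈ L) ∧
      ¬ L ≤ scalars (Fin n) F ∧ Nat.card L = d :=
    ⟨_, H, le_rfl, fun h hh x hx => H.mul_mem (H.mul_mem hh hx) (H.inv_mem hh), hH0, rfl⟩
  obtain ⟨M, hM, hMn, hM0, hMd⟩ := Nat.find_spec hex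
  have hmin : ∀ L ≤ M, (∀ h ∈ H, ∀ x ∈ L, h * x * h⁻¹ ∈ L) → ¬ L ≤ scalars (Fin n) F → L = M :=
    fun L h1 h2 h3 => Subgroup.eq_of_le_of_card_ge h1
      (hMd ▸ Nat.find_min' hex ⟨L, h1.trans hM, h2, h3, rfl⟩)
  by_cases hMM : ⁅M, M⁆ ≤ scalars (Fin n) F
  · exfalso
    refine hM0 (hall.comm_le_scalars hn.two_le hM hMn fun x hx y hy => ?_)
    have hz : x * y * x⁻¹ * y⁻¹ ∈ H :=
      H.mul_mem (H.mul_mem (H.mul_mem (hM hx) (hM hy)) (H.inv_mem (hM hx))) (H.inv_mem (hM hy))
    obtain ⟨c, hc⟩ := (mem_scalars_iff _).mp (hMM (Subgroup.commutator_mem_commutator hx hy))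
    have hdet : (c : F) ^ n = 1 := by
      have e := mem_sl_iff.mp (hsl hz)
      change ((⁅x, y⁆ : GL (Fin n) F) : Mat n F).det = 1 at e
      rwa [hc, Matrix.det_smul, Matrix.det_one, mul_one, Fintype.card_fin] at e
    have hsq : (c : F) * c = 1 := by
      haveI : NeZero n := ⟨hn.ne_zero⟩
      have e := gram_eq hQ (hH hz)
      change ((⁅x, y⁆ : GL (Fin n) F) : Mat n F)ᵀ * pgram Q * _ = _ at e
      rw [hc, Matrix.transpose_smul, Matrix.transpose_one, Matrix.smul_mul, one_mul,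
        show ((x * y * x⁻¹ * y⁻¹ : GL (Fin n) F) : Mat n F) = (c : F) • 1 from hc, Matrix.mul_smul,
        mul_one, smul_smul] at e
      have e2 := congrArg Matrix.det e
      rw [Matrix.det_smul, Fintype.card_fin] at e2
      have e3 : ((c : F) * c - 1) • pgram Q = 0 := by rw [sub_smul, one_smul, e, sub_self]
      exact sub_eq_zero.mp ((smul_eq_zero.mp e3).resolve_right fun h0 =>
        det_pgram_ne hQ (by rw [h0, Matrix.det_zero]))
    have hc1 : (c : F) = 1 := by
      obtain ⟨k, hk⟩ := hodd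
      have e : (c : F) ^ n = c := by
        rw [show (c : F) ^ n = (c : F) ^ (2 * k + 1) from congrArg ((c : F) ^ ·) hk, pow_succ,
          pow_mul, pow_two, hsq, one_pow, one_mul]
      rw [← e, hdet]
    have h1 : ⁅x, y⁆ = 1 := Units.ext (by rw [hc, hc1, one_smul, Units.val_one])
    exact commutatorElement_eq_one_iff_mul_comm.mp h1
  · have hperf : ⁅M, M⁆ = M :=
      hmin _ (Subgroup.commutator_le_self M) (fun h hh => conj_commutator_mem (hMn h hh)) hMM
    obtain ⟨hsimp, hnab, hcent, habs⟩ := perfect_core hn hall hM hMn hM0 hmin hperf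
    by_cases hsub : ∃ F₀ : Subfield F, F₀ ≠ ⊤ ∧ RealisableOver F₀ (matrixSet M)
    · obtain ⟨F₀, hF₀, hreal⟩ := hsub
      obtain ⟨B, hB⟩ := realisableOver_iff.mp hreal
      obtain ⟨F₁, l, hle, hne, hl, hcard⟩ := exists_prime_index _ hF₀
      obtain ⟨d0, hd0, s, hs⟩ := hd F₁
      obtain ⟨P, hP, hHP⟩ := descend hn.pos hodd hQ h2 hd0 hs habs (hM.trans hH) hMn
        fun x hx => (hB x hx).mono hle
      exact .inr (.inr (.inr (.inl ⟨F₁, l, P, hl, hne, hcard, hP, hHP⟩)))
    refine .inr (.inr (.inr (.inr ⟨M,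
      ⟨hM, hMn, hperf, hsimp, hnab, hcent, habs, fun F₀ h h' => hsub ⟨F₀, h, h'⟩⟩, ?_⟩)))
    rintro ⟨σ, f, hf, hfix⟩
    exact hsub (realisable_of_unitary hn.pos habs hQ.polar_bilinear hQ.nondegenerate
      (by rintro _ ⟨x, hx, rfl⟩ u v; exact polar_isometry (hH (hM hx)) u v) hf hfix)

omit [Fintype F] in
/-- A matrix with square zero added to one is not monomial. -/
theorem not_mem_decomp (h2 : (2 : F) ≠ 0) {D : Fin n → Submodule F (Fin n → F)}
    (hD : IsMDecomposition 1 D) {g : GL (Fin n) F} {N : Mat n F} (hg : (g : Mat n F) = 1 + N)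
    (hN : N * N = 0) (hN0 : N ≠ 0) : g ∉ decompositionStabilizer D := by
  classical
  rintro ⟨τ, hτ⟩
  have hmap : ∀ i, ∀ v ∈ D i, (g : Mat n F) *ᵥ v ∈ D (τ i) := fun i v hv => by
    rw [← hτ i]; exact ⟨v, hv, by simp⟩
  have hz : ∀ i, ∀ v ∈ D i, N *ᵥ v = 0 := by
    intro i v hv
    by_cases hv0 : v = 0
    · rw [hv0, Matrix.mulVec_zero]
    have hgv : (g : Mat n F) *ᵥ v = v + N *ᵥ v := by rw [hg, Matrix.add_mulVec, Matrix.one_mulVec]
    by_cases hτi : τ i = i
    · have h1 := hmap i v hv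
      rw [hτi] at h1
      obtain ⟨a, ha⟩ := exists_smul_eq_of_finrank_eq_one (hD.finrank_eq i)
        (x := (⟨v, hv⟩ : D i)) (fun e => hv0 (congrArg Subtype.val e)) ⟨_, h1⟩
      have ha' : a • v = (g : Mat n F) *ᵥ v := congrArg Subtype.val ha
      have hNv : N *ᵥ v = (a - 1) • v := by rw [sub_smul, one_smul, ha', hgv]; abel
      have e : N *ᵥ (N *ᵥ v) = 0 := by rw [Matrix.mulVec_mulVec, hN, Matrix.zero_mulVec]
      rw [hNv, Matrix.mulVec_smul, hNv, smul_smul] at e
      have : a - 1 = 0 := mul_self_eq_zero.mp ((smul_eq_zero.mp e).resolve_right hv0)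
      rw [hNv, this, zero_smul]
    · exfalso
      set w := (g : Mat n F) *ᵥ v with hw
      have hw0 : w ≠ 0 := fun e => hv0 (Matrix.mulVec_injective_iff_isUnit.2 g.isUnit
        (e.trans (Matrix.mulVec_zero _).symm))
      have h3 : (g : Mat n F) *ᵥ w = w + w - v := by
        have e : N *ᵥ (N *ᵥ v) = 0 := by rw [Matrix.mulVec_mulVec, hN, Matrix.zero_mulVec]
        rw [hg, Matrix.add_mulVec, Matrix.one_mulVec, hgv, Matrix.mulVec_add, e]
        abel
      have hne : τ (τ i) ≠ τ i := fun e => hτi (τ.injective e)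
      have hmem : w + w ∈ D (τ (τ i)) ⊔ D i := by
        rw [show w + w = (g : Mat n F) *ᵥ w + v by rw [h3]; abel]
        exact Submodule.add_mem_sup (hmap _ _ (hmap i v hv)) hv
      have hle : D (τ (τ i)) ⊔ D i ≤ ⨆ j, ⨆ _ : j ≠ τ i, D j :=
        sup_le (le_iSup₂ (f := fun j (_ : j ≠ τ i) => D j) _ hne)
          (le_iSup₂ (f := fun j (_ : j ≠ τ i) => D j) i (Ne.symm hτi))
      have h0 : w + w = 0 :=
        (Submodule.disjoint_def.mp (hD.indep (τ i))) _ (add_mem (hmap i v hv) (hmap i v hv))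
          (hle hmem)
      rw [← two_smul F, smul_eq_zero] at h0
      exact h0.elim h2 hw0
  refine hN0 (Matrix.ext_of_mulVec_single fun k => ?_)
  rw [Matrix.zero_mulVec]
  have hmem : (Pi.single k 1 : Fin n → F) ∈ iSup D := hD.iSup_eq_top ▸ Submodule.mem_top
  generalize (Pi.single k 1 : Fin n → F) = w at hmem ⊢
  induction hmem using Submodule.iSup_induction' with
  | mem j v hv => exact hz j v hv
  | zero => exact Matrix.mulVec_zero _
  | add a b _ _ iha ihb => rw [Matrix.mulVec_add, iha, ihb, add_zero]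

/-- A one parameter root family is not inside a subfield group. -/
theorem not_le_subfield (h2 : (2 : F) ≠ 0) {G : Subgroup (GL (Fin n) F)} {N : Mat n F}
    (hN : N * N = 0) (hN0 : N ≠ 0) (hroot : ∀ t : F, ∃ g ∈ G, (g : Mat n F) = 1 + t • N)
    {F₀ : Subfield F} (h : F₀ ≠ ⊤) (P : GL (Fin n) F) : ¬ G ≤ subfieldSubgroup F₀ P := by
  classical
  intro hle
  obtain ⟨τ, hτ⟩ := exists_frob_fixed F₀
  set N' := ((P⁻¹ : GL (Fin n) F) : Mat n F) * N * (P : Mat n F) with hN'def
  have hN' : N' * N' = 0 := by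
    rw [hN'def, show ((P⁻¹ : GL (Fin n) F) : Mat n F) * N * (P : Mat n F) *
      (((P⁻¹ : GL (Fin n) F) : Mat n F) * N * (P : Mat n F)) =
      ((P⁻¹ : GL (Fin n) F) : Mat n F) * (N * N) * (P : Mat n F) by
        simp only [mul_assoc, Units.mul_inv_cancel_left], hN, mul_zero, zero_mul]
  obtain ⟨i, j, hij⟩ : ∃ i j, N' i j ≠ 0 := by
    by_contra hall
    push Not at hall
    refine hN0 ?_
    have e : N' = 0 := Matrix.ext hall
    calc N = (P : Mat n F) * N' * ((P⁻¹ : GL (Fin n) F) : Mat n F) := by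
          simp [hN'def, mul_assoc]
      _ = 0 := by rw [e, mul_zero, zero_mul]
  have hmem : ∀ t : F, t * N' i j ∈ F₀ := by
    intro t
    obtain ⟨g, hg, hgN⟩ := hroot t
    obtain ⟨c, hc0, hc⟩ := (CfsgLib.Classical.SubfieldMax.mem_subfieldSubgroup_iff F₀ P g).mp (hle hg)
    set A := c • (1 + t • N') with hA
    have hPg : ((P⁻¹ * g * P : GL (Fin n) F) : Mat n F) = 1 + t • N' := by
      rw [Units.val_mul, Units.val_mul, hgN, hN'def]
      simp [mul_add, add_mul, mul_assoc]
    have hrat : ∀ a b, A a b ∈ F₀ := fun a b => by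
      have := hc a b
      rwa [hPg] at this
    have hquad : A * A - (2 * c) • A + (c * c) • (1 : Mat n F) = 0 := by
      rw [hA]
      simp only [Matrix.smul_mul, Matrix.mul_smul, mul_add, add_mul, mul_one, one_mul, hN', smul_zero,
        smul_add, smul_smul, add_zero]
      module
    have hAτ : A.map τ = A := by ext a b; exact (hτ _).mpr (hrat a b)
    have hquad' : A * A - (2 * τ c) • A + (τ c * τ c) • (1 : Mat n F) = 0 := by
      have e := congrArg (RingHom.mapMatrix τ) hquad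
      rw [map_add, map_sub, map_mul, map_zero, RingHom.mapMatrix_apply, hAτ] at e
      rw [← e]
      ext a b
      simp [Matrix.one_apply, apply_ite τ, map_ofNat]
      left
      exact ((hτ _).mpr (hrat a b)).symm
    have hcF : c ∈ F₀ := by
      rw [← hτ]
      by_contra hne
      have hlin : (2 * (τ c - c)) • A = ((τ c - c) * (τ c + c)) • (1 : Mat n F) := by
        have e : A * A - (2 * c) • A + (c * c) • (1 : Mat n F) -
            (A * A - (2 * τ c) • A + (τ c * τ c) • (1 : Mat n F)) = 0 := by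
          rw [hquad, hquad', sub_zero]
        rw [← sub_eq_zero, ← e]
        module
      have hk : 2 * (τ c - c) ≠ 0 := mul_ne_zero h2 (sub_ne_zero.mpr hne)
      have hAs : A = ((2 * (τ c - c))⁻¹ * ((τ c - c) * (τ c + c))) • (1 : Mat n F) := by
        rw [← smul_smul, ← hlin, smul_smul, inv_mul_cancel₀ hk, one_smul]
      set α := (2 * (τ c - c))⁻¹ * ((τ c - c) * (τ c + c)) with hα
      have hT : t • N' = (c⁻¹ * α - 1) • (1 : Mat n F) := by
        have e := congrArg (fun X : Mat n F => c⁻¹ • X) (hA.symm.trans hAs)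
        simp only [smul_smul, inv_mul_cancel₀ hc0, one_smul] at e
        rw [sub_smul, one_smul, ← e]; abel
      by_cases hzero : c⁻¹ * α - 1 = 0
      · have hAc : A = c • (1 : Mat n F) := by rw [hA, hT, hzero, zero_smul, add_zero]
        apply hne
        have := (hτ (A i i)).mpr (hrat i i)
        simpa [hAc] using this
      · have e : (t * t) • (N' * N') = ((c⁻¹ * α - 1) * (c⁻¹ * α - 1)) • (1 : Mat n F) := by
          rw [← smul_smul, ← Matrix.mul_smul, ← Matrix.smul_mul, hT, Matrix.smul_mul, one_mul,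
            smul_smul]
        rw [hN', smul_zero] at e
        have := congrFun (congrFun e i) i
        simp at this
        exact hzero this
    have h3 : A i j - c * (1 : Mat n F) i j ∈ F₀ :=
      F₀.sub_mem (hrat i j) (F₀.mul_mem hcF (by
        rw [Matrix.one_apply]; split <;> [exact F₀.one_mem; exact F₀.zero_mem]))
    have h4 : A i j - c * (1 : Mat n F) i j = c * (t * N' i j) := by
      simp [hA, Matrix.add_apply, mul_add]
    rw [h4] at h3
    simpa [← mul_assoc, inv_mul_cancel₀ hc0] using F₀.mul_mem (F₀.inv_mem hcF) h3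
  refine h (eq_top_iff.mpr fun x _ => ?_)
  simpa [mul_assoc, inv_mul_cancel₀ hij] using hmem (x * (N' i j)⁻¹)

include hQ h2 hn hn5 hd in
/-- The maximal subgroups. -/
theorem maximal_cases {G H : Subgroup (GL (Fin n) F)} (hG : G ≤ Cfsg.isometryGroup F Q)
    (hGsl : G ≤ specialLinear (Fin n) F) (hGirr : ActsIrreducibly (matrixSet G))
    {N : Mat n F} (hN : N * N = 0) (hN0 : N ≠ 0)
    (hroot : ∀ t : F, ∃ g ∈ G, (g : Mat n F) = 1 + t • N) (hH : IsMaximalIn G H) :
    (∃ U : Submodule F (Fin n → F), U ≠ ⊥ ∧ IsTotallySingularQuad Q U ∧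
        H = subspaceStabilizer U ⊓ G) ∨
    (∃ U : Submodule F (Fin n → F), U ≠ ⊥ ∧ Even (Module.finrank F U) ∧
        IsNondegenerateOn (QuadraticMap.polar Q) U ∧ ¬ Bad Q U ∧ H = subspaceStabilizer U ⊓ G) ∨
    ((Fintype.card F).Prime ∧ ∃ D : Fin n → Submodule F (Fin n → F),
        IsOrthogonalMDecomposition Q 1 D ∧ H = decompositionStabilizer D ⊓ G) ∨
    (∃ (F₀ : Subfield F) (r : ℕ) (P : GL (Fin n) F), r.Prime ∧
        Fintype.card F = Nat.card F₀ ^ r ∧ IsQuadFormRationalStructure Q F₀ P ∧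
        H = subfieldSubgroup F₀ P ⊓ G) ∨
    InOrthogonalResidualClass H := by
  have hsub : ∀ U : Submodule F (Fin n → F), U ≠ ⊥ → U ≠ ⊤ → ¬ G ≤ subspaceStabilizer U := by
    intro U h0 h1 hle
    exact (irr_iff.mp hGirr U (by rintro _ ⟨g, hg, rfl⟩ v hv; exact (hle hg v).mp hv)).elim h0 h1
  rcases outcome hQ h2 hn hn5 hd (hH.1.le.trans hG) (hH.1.le.trans hGsl) with
    ⟨U, h0, h1, hts, hle⟩ | ⟨U, h0, h1, hev, hnd, hbad, hle⟩ | ⟨hp, D, hD, hle⟩ |
    ⟨F₀, r, P, hr, hne, hcard, hP, hle⟩ | hres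
  · exact .inl ⟨U, h0, hts, maximal_eq_inf hH hle (hsub U h0 h1)⟩
  · exact .inr (.inl ⟨U, h0, hev, hnd, hbad, maximal_eq_inf hH hle (hsub U h0 h1)⟩)
  · refine .inr (.inr (.inl ⟨hp, D, hD, maximal_eq_inf hH hle fun h => ?_⟩))
    obtain ⟨g, hg, e⟩ := hroot 1
    exact not_mem_decomp h2 hD.decomp.decomp (e.trans (by rw [one_smul])) hN hN0 (h hg)
  · exact .inr (.inr (.inr (.inl ⟨F₀, r, P, hr, hcard, hP,
      maximal_eq_inf hH hle (not_le_subfield h2 hN hN0 hroot hne P)⟩)))
  · exact .inr (.inr (.inr (.inr hres)))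

end CfsgLib.Classical.OrthPrime
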