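import Cfsg.Agent.Lib.Classical.OrthMaxND
import Cfsg.Agent.Lib.Orth.Standard

/-!
# `Ω` is irreducible and contains root elements
-/

set_option autoImplicit false
set_option linter.unusedSectionVars false

open Module QuadraticMap CfsgLib.Orth CfsgLib.Classical Matrix

namespace CfsgLib.Classical.OrthPrime

variable {F : Type*} [Field F] [Fintype F] {ι : Type} [Fintype ι] [DecidableEq ι]
  {Qf : (ι → F) → F} (Q : QuadraticForm F (ι → F)) (hQf : ∀ v, Qf v = Q v)
  (hQ : (QuadraticMap.polarBilin Q).Nondegenerate) (h2 : (2 : F) ≠ 0) (hn : 5 ≤ Fintype.card ι)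

include hQf hQ h2 hn

theorem siegel_mem {d u : ι → F} (hd : Q d = 0) (hdu : polar Q d u = 0) :
    ∃ g ∈ Cfsg.Geo.omegaGL Qf, ∀ v, (g : Matrix ι ι F) *ᵥ v =
      v + polar Q d v • u + (-(polar Q u v) - Q u * polar Q d v) • d := by
  have hn5 : 5 ≤ finrank F (ι → F) := by simpa using hn
  obtain ⟨hp⟩ := exists_hypPairs hQ hn5
  obtain ⟨g, hg⟩ := exists_isSiegel hQ hd hdu
  refine ⟨orthToGL Q hQf g, ?_, fun v => (matOf_mulVec Q g v).trans (hg.2.2 v)⟩
  rw [omegaGL_eq Q hQf]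
  exact ⟨g, hg.mem_commutator hQ (good_of_two_ne h2) hp hn5, rfl⟩

/-- A root subgroup of `Ω`. -/
theorem exists_root : ∃ N : Matrix ι ι F, N * N = 0 ∧ N ≠ 0 ∧
    ∀ t : F, ∃ g ∈ Cfsg.Geo.omegaGL Qf, (g : Matrix ι ι F) = 1 + t • N := by
  obtain ⟨hp⟩ := exists_hypPairs hQ (show 5 ≤ finrank F (ι → F) by simpa using hn)
  let L : (ι → F) →ₗ[F] (ι → F) :=
    (QuadraticMap.polarBilin Q hp.e₀).smulRight hp.e₁ - (QuadraticMap.polarBilin Q hp.e₁).smulRight hp.e₀
  have hL : ∀ v, L v = polar Q hp.e₀ v • hp.e₁ - polar Q hp.e₁ v • hp.e₀ := fun v => rfl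
  refine ⟨LinearMap.toMatrix' L, ?_, fun h => ?_, fun t => ?_⟩
  · refine Matrix.ext_of_mulVec_single fun k => ?_
    rw [← Matrix.mulVec_mulVec, Matrix.zero_mulVec, LinearMap.toMatrix'_mulVec,
      LinearMap.toMatrix'_mulVec, hL, hL]
    simp [polar_sub_right, polar_smul_r', polar_self', hp.he₀, hp.he₁, hp.hee, hp.cee]
  · have e : L hp.f₀ = 0 := by rw [← LinearMap.toMatrix'_mulVec, h, Matrix.zero_mulVec]
    rw [hL, hp.h00, one_smul, polar_comm _ hp.e₁ hp.f₀, hp.hfe, zero_smul, sub_zero] at e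
    have := hp.h11
    rw [e, polar_zero_left] at this
    exact zero_ne_one this
  · obtain ⟨g, hg, hgv⟩ := siegel_mem Q hQf hQ h2 hn (d := hp.e₀) (u := t • hp.e₁) hp.he₀
      (by rw [polar_smul_r', hp.hee, mul_zero])
    refine ⟨g, hg, Matrix.ext_of_mulVec_single fun k => ?_⟩
    rw [hgv, Matrix.add_mulVec, Matrix.one_mulVec, Matrix.smul_mulVec, LinearMap.toMatrix'_mulVec,
      hL, quad_smul', hp.he₁, polar_smul_l']
    module

/-- `Ω` has no invariant subspace. -/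
theorem irreducible_omega (W : Submodule F (ι → F))
    (hW : ∀ g ∈ Cfsg.Geo.omegaGL Qf, ∀ v ∈ W, (g : Matrix ι ι F) *ᵥ v ∈ W) : W = ⊥ ∨ W = ⊤ := by
  have hn5 : 5 ≤ finrank F (ι → F) := by simpa using hn
  obtain ⟨hp⟩ := exists_hypPairs hQ hn5
  -- a singular vector with a non-orthogonal partner in `W` lies in `W`
  have key : ∀ d, Q d = 0 → ∀ w ∈ W, polar Q d w ≠ 0 → d ∈ W := by
    intro d hd w hw hdw
    have hd0 : d ≠ 0 := fun e => hdw (by rw [e, polar_zero_left])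
    obtain ⟨hp', rfl⟩ := hp.exists_at hQ hd hd0
    set u := hp'.e₁ + hp'.f₁ with hu
    have hqu : Q u = 1 := by rw [hu, quad_add', hp'.he₁, hp'.hf₁, hp'.h11]; ring
    have hdu : polar Q hp'.e₀ u = 0 := by rw [hu, polar_add_right, hp'.hee, hp'.hef, add_zero]
    obtain ⟨g, hg, hgv⟩ := siegel_mem Q hQf hQ h2 hn hd hdu
    obtain ⟨k, hk, hkv⟩ := siegel_mem Q hQf hQ h2 hn hd
      (show polar Q hp'.e₀ ((-1 : F) • u) = 0 by rw [polar_smul_r', hdu, mul_zero])
    have h1 := W.add_mem (W.sub_mem (hW g hg w hw) hw) (W.sub_mem (hW k hk w hw) hw)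
    rw [hgv, hkv, quad_smul', polar_smul_l', hqu] at h1
    have h3 : (-(2 * polar Q hp'.e₀ w)) • hp'.e₀ ∈ W := by convert h1 using 1; module
    exact (W.smul_mem_iff (neg_ne_zero.mpr (mul_ne_zero h2 hdw))).1 h3
  by_cases hbot : W = ⊥
  · exact Or.inl hbot
  right
  obtain ⟨w, hw, hw0⟩ := Submodule.exists_mem_ne_zero_of_ne_bot hbot
  -- some singular vector is not orthogonal to `w`
  obtain ⟨d, hd, hdw⟩ : ∃ d, Q d = 0 ∧ polar Q d w ≠ 0 := by
    by_contra hall
    push Not at hall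
    by_cases hsing : Q w = 0
    · obtain ⟨hp', rfl⟩ := hp.exists_at hQ hsing hw0
      have := hall _ hp'.hf₀
      rw [hp'.c00] at this
      exact one_ne_zero this
    · -- all Siegel images of a singular vector are orthogonal to `w`
      obtain ⟨u', hu'⟩ : ∃ x, polar Q x w ≠ 0 :=
        ⟨w, by rw [polar_self']; exact mul_ne_zero h2 hsing⟩
      refine hu' ?_
      have hperp : ∀ u, polar Q hp.e₀ u = 0 → polar Q u w = 0 := by
        intro u hu
        obtain ⟨g, hg⟩ := exists_isSiegel hQ hp.he₀ hu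
        have e := hall (g.1 hp.f₀) (by rw [apply_quad, hp.hf₀])
        rw [hg.2.2, hp.h00, one_smul, polar_add_left, polar_add_left, polar_smul_l',
          hall _ hp.hf₀, hall _ hp.he₀] at e
        simpa using e
      have e : u' = (u' - polar Q hp.e₀ u' • hp.f₀) + polar Q hp.e₀ u' • hp.f₀ := by abel
      rw [e, polar_add_left, polar_smul_l', hall _ hp.hf₀, hperp _ (by
        rw [polar_sub_right, polar_smul_r', hp.h00]; ring)]
      ring
  have hdW := key d hd w hw hdw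
  obtain ⟨hp', rfl⟩ := hp.exists_at hQ hd fun e => hdw (by rw [e, polar_zero_left])
  have hfW : hp'.f₀ ∈ W := key _ hp'.hf₀ _ hdW (by rw [hp'.c00]; exact one_ne_zero)
  refine eq_top_iff.2 fun x _ => ?_
  set u := x - polar Q hp'.e₀ x • hp'.f₀ with hu
  have hdu : polar Q hp'.e₀ u = 0 := by
    rw [hu, polar_sub_right, polar_smul_r', hp'.h00]; ring
  obtain ⟨g, hg, hgv⟩ := siegel_mem Q hQf hQ h2 hn hp'.he₀ hdu
  have h1 := hW g hg _ hfW
  rw [hgv, hp'.h00, one_smul] at h1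
  have h3 : u ∈ W := by
    have := W.sub_mem (W.sub_mem h1 hfW) (W.smul_mem (-(polar Q u hp'.f₀) - Q u * 1) hdW)
    convert this using 1
    module
  rw [show x = u + polar Q hp'.e₀ x • hp'.f₀ by rw [hu]; abel]
  exact W.add_mem h3 (W.smul_mem _ hfW)

end CfsgLib.Classical.OrthPrime
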