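import Cfsg.Agent.Lib.Classical.OrthPrime.Main
import Cfsg.Agent.Lib.Classical.OrthPrime.Omega

/-!
# Maximal subgroups of `Ω(Q)` in odd prime dimension, for any index type
-/

set_option autoImplicit false
set_option linter.unusedSectionVars false

namespace CfsgLib.Classical.OrthPrime

open Matrix Cfsg Cfsg.Geo CfsgLib.Classical.AschPrime
open scoped MatrixGroups

variable {n : ℕ} {ι : Type} [Fintype ι] [DecidableEq ι] {F : Type*} [Field F]

/-- Coordinates along a bijection. -/
noncomputable def coord (e : ι ≃ Fin n) : (ι → F) ≃ₗ[F] (Fin n → F) :=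
  LinearEquiv.funCongrLeft F F e.symm

theorem mulVec_coord (e : ι ≃ Fin n) (g : GL ι F) (v : ι → F) :
    (glReindex e g : Mat n F) *ᵥ coord e v = coord e ((g : Matrix ι ι F) *ᵥ v) := by
  ext i
  simp only [coord, LinearEquiv.funCongrLeft_apply, Matrix.mulVec, dotProduct]
  show (∑ j, Matrix.reindex e e (g : Matrix ι ι F) i j * v (e.symm j)) =
    ∑ j, (g : Matrix ι ι F) (e.symm i) j * v j
  exact Fintype.sum_equiv e.symm _ _ fun j => by simp

theorem mulVec_coord_symm (e : ι ≃ Fin n) (g : GL ι F) (v : Fin n → F) :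
    (g : Matrix ι ι F) *ᵥ (coord e).symm v = (coord e).symm ((glReindex e g : Mat n F) *ᵥ v) := by
  refine (coord e).injective ?_
  rw [← mulVec_coord, LinearEquiv.apply_symm_apply, LinearEquiv.apply_symm_apply]

theorem mem_scalars_reindex (e : ι ≃ Fin n) (g : GL ι F) :
    glReindex e g ∈ scalars (Fin n) F ↔ g ∈ scalars ι F := by
  rw [mem_scalars_iff, mem_scalars_iff]
  refine exists_congr fun c => ?_
  change Matrix.reindexAlgEquiv F F e (g : Matrix ι ι F) = _ ↔ _
  constructor
  · intro h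
    have := congrArg (Matrix.reindexAlgEquiv F F e).symm h
    rwa [AlgEquiv.symm_apply_apply, map_smul, map_one] at this
  · intro h; rw [h, map_smul, map_one]

variable (e : ι ≃ Fin n) {Qf : (ι → F) → F}

/-- The form in the new coordinates. -/
noncomputable def qt (Qf : (ι → F) → F) : (Fin n → F) → F := fun v => Qf ((coord e).symm v)

theorem polar_qt (u v : Fin n → F) : QuadraticMap.polar (qt e Qf) u v =
    QuadraticMap.polar Qf ((coord e).symm u) ((coord e).symm v) := by
  simp only [QuadraticMap.polar, qt, map_add]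

theorem qt_nondeg (hQ : IsNondegenerateQuadraticForm Qf) :
    IsNondegenerateQuadraticForm (qt e Qf) where
  smul c v := by simp only [qt, map_smul, hQ.smul]
  polar_bilinear :=
    { add_left := fun x y v => by simp only [polar_qt, map_add, hQ.polar_bilinear.add_left]
      smul_left := fun c x v => by simp only [polar_qt, map_smul, hQ.polar_bilinear.smul_left]
      add_right := fun v x y => by simp only [polar_qt, map_add, hQ.polar_bilinear.add_right]
      smul_right := fun c v x => by simp only [polar_qt, map_smul, hQ.polar_bilinear.smul_right] }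
  nondegenerate v hv := by
    obtain ⟨⟨x, hx⟩, y, hy⟩ := hQ.nondegenerate ((coord e).symm v) (by simpa using hv)
    exact ⟨⟨coord e x, by simpa [polar_qt] using hx⟩, coord e y, by simpa [polar_qt] using hy⟩

theorem map_toLin_reindex (g : GL ι F) (U : Submodule F (Fin n → F)) :
    (U.map ((coord (F := F) e).symm : (Fin n → F) →ₗ[F] (ι → F))).map (Matrix.toLin' (g : Matrix ι ι F)) =
      (U.map (Matrix.toLin' (glReindex e g : Mat n F))).map
        ((coord (F := F) e).symm : (Fin n → F) →ₗ[F] (ι → F)) := by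
  rw [← Submodule.map_comp, ← Submodule.map_comp]
  congr 1
  refine LinearMap.ext fun v => ?_
  simp only [LinearMap.comp_apply, Matrix.toLin'_apply]
  exact mulVec_coord_symm e g v

theorem mem_stab_iff (g : GL ι F) (U : Submodule F (Fin n → F)) :
    glReindex e g ∈ subspaceStabilizer U ↔
      g ∈ subspaceStabilizer (U.map ((coord (F := F) e).symm : (Fin n → F) →ₗ[F] (ι → F))) := by
  constructor
  · intro h v
    show v ∈ U.map _ ↔ (g : Matrix ι ι F) *ᵥ v ∈ U.map _
    rw [Submodule.mem_map_equiv, Submodule.mem_map_equiv]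
    simpa [← mulVec_coord] using h (coord e v)
  · intro h v
    show v ∈ U ↔ (glReindex e g : Mat n F) *ᵥ v ∈ U
    have h' : (coord e).symm v ∈ U.map ((coord (F := F) e).symm : (Fin n → F) →ₗ[F] (ι → F)) ↔
        (g : Matrix ι ι F) *ᵥ (coord e).symm v ∈
          U.map ((coord (F := F) e).symm : (Fin n → F) →ₗ[F] (ι → F)) := h _
    rw [Submodule.mem_map_equiv, Submodule.mem_map_equiv] at h'
    simpa [mulVec_coord_symm] using h'

theorem mem_decomp_iff (g : GL ι F) {t : ℕ} (D : Fin t → Submodule F (Fin n → F)) :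
    glReindex e g ∈ decompositionStabilizer D ↔
      g ∈ decompositionStabilizer
        (fun i => (D i).map ((coord (F := F) e).symm : (Fin n → F) →ₗ[F] (ι → F))) := by
  refine exists_congr fun τ => forall_congr' fun i => ?_
  rw [map_toLin_reindex e g (D i)]
  exact ⟨fun h => by rw [h], fun h => Submodule.map_injective_of_injective (coord e).symm.injective h⟩

theorem mem_subfield_iff (g : GL ι F) (F₀ : Subfield F) (P : GL (Fin n) F) :
    glReindex e g ∈ subfieldSubgroup F₀ P ↔ g ∈ subfieldSubgroup F₀ ((glReindex e).symm P) := by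
  rw [CfsgLib.Classical.SubfieldMax.mem_subfieldSubgroup_iff,
    CfsgLib.Classical.SubfieldMax.mem_subfieldSubgroup_iff]
  obtain ⟨R, rfl⟩ := (glReindex e).surjective P
  rw [MulEquiv.symm_apply_apply]
  refine exists_congr fun c => and_congr_right fun _ => ?_
  rw [← map_inv, ← map_mul, ← map_mul]
  refine ⟨fun h a b => ?_, fun h a b => h (e.symm a) (e.symm b)⟩
  have := h (e a) (e b)
  change c * Matrix.reindex e e _ (e a) (e b) ∈ F₀ at this
  simpa using this

theorem residual_transport {H : Subgroup (GL ι F)}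
    (h : InOrthogonalResidualClass (H.map (glReindex e).toMonoidHom)) :
    InOrthogonalResidualClass H := by
  classical
  obtain ⟨P', hP', hno⟩ := h
  set φ := (glReindex (F := F) e).toMonoidHom
  set P := P'.comap φ
  have hmem : ∀ g, g ∈ P ↔ glReindex e g ∈ P' := fun g => Iff.rfl
  have hPmap : P.map φ = P' := Subgroup.map_comap_eq_self_of_surjective (glReindex e).surjective _
  let ψ : P ≃* P' :=
    ((glReindex (F := F) e).subgroupMap P).trans (MulEquiv.subgroupCongr hPmap)
  have hmap : ((scalars ι F).subgroupOf P).map ψ.toMonoidHom = (scalars (Fin n) F).subgroupOf P' := by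
    ext y
    constructor
    · rintro ⟨x, hx, rfl⟩
      exact (mem_scalars_reindex e _).mpr hx
    · intro hy
      refine ⟨ψ.symm y, ?_, ψ.apply_symm_apply y⟩
      show ((ψ.symm y : P) : GL ι F) ∈ scalars ι F
      rw [← mem_scalars_reindex e]
      have : glReindex e ((ψ.symm y : P) : GL ι F) = (y : GL (Fin n) F) :=
        congrArg Subtype.val (ψ.apply_symm_apply y)
      rw [this]; exact hy
  let χ : (P ⧸ (scalars ι F).subgroupOf P) ≃* (P' ⧸ (scalars (Fin n) F).subgroupOf P') :=
    QuotientGroup.congr _ _ ψ hmap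
  refine ⟨P, ⟨fun g hg => ?_, fun h hh x hx => ?_, ?_, ?_, ?_, fun h hh hc => ?_, ?_, ?_⟩, ?_⟩
  · obtain ⟨x, hx, hxe⟩ := hP'.le ((hmem g).mp hg)
    exact (glReindex e).injective hxe ▸ hx
  · rw [hmem, map_mul, map_mul, map_inv]
    exact hP'.normal _ ⟨h, hh, rfl⟩ _ hx
  · refine Subgroup.map_injective (f := φ) (glReindex e).injective ?_
    rw [Subgroup.map_commutator, hPmap, hP'.perfect]
  · haveI := hP'.simple
    exact χ.isSimpleGroup
  · intro hc
    exact hP'.nonabelian ⟨⟨fun a b => χ.symm.injective (by rw [map_mul, map_mul, hc.is_comm.comm])⟩⟩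
  · rw [← mem_scalars_reindex e]
    refine hP'.centralizer_scalar _ ⟨h, hh, rfl⟩ fun y hy => ?_
    obtain ⟨x, hx, rfl⟩ := hPmap.symm ▸ hy
    show glReindex e h * glReindex e x * (glReindex e h)⁻¹ * (glReindex e x)⁻¹ ∈ _
    rw [← map_inv, ← map_inv, ← map_mul, ← map_mul, ← map_mul, mem_scalars_reindex]
    exact hc x hx
  · refine ⟨fun W hW => ?_, fun M hM => ?_⟩
    · have := irr_iff.mp hP'.absIrred.1 (W.map (coord (F := F) e : (ι → F) →ₗ[F] (Fin n → F))) (by
        rintro _ ⟨y, hy, rfl⟩ v hv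
        obtain ⟨x, hx, rfl⟩ := hPmap.symm ▸ hy
        obtain ⟨w, hw, rfl⟩ := hv
        refine ⟨(x : Matrix ι ι F) *ᵥ w, ?_, (mulVec_coord e x w).symm⟩
        have h1 := hW _ ⟨x, hx, rfl⟩
        exact h1 ⟨w, hw, by simp⟩)
      rcases this with h | h
      · exact .inl (by simpa using h)
      · right
        refine Submodule.map_injective_of_injective (f := (coord (F := F) e : (ι → F) →ₗ[F] (Fin n → F)))
          (coord e).injective ?_
        rw [h, Submodule.map_top]
        exact (LinearMap.range_eq_top.mpr (coord e).surjective).symm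
    · obtain ⟨c, hc⟩ := hP'.absIrred.2 (Matrix.reindexAlgEquiv F F e M) (by
        rintro _ ⟨y, hy, rfl⟩
        obtain ⟨x, hx, rfl⟩ := hPmap.symm ▸ hy
        show _ * Matrix.reindexAlgEquiv F F e (x : Matrix ι ι F) =
          Matrix.reindexAlgEquiv F F e (x : Matrix ι ι F) * _
        rw [← map_mul, ← map_mul, hM _ ⟨x, hx, rfl⟩])
      refine ⟨c, (Matrix.reindexAlgEquiv F F e).injective ?_⟩
      rw [hc, map_smul, map_one]
  · intro F₀ hF₀ hreal
    obtain ⟨B, hB⟩ := hreal
    refine hP'.no_subfield F₀ hF₀ ⟨glReindex e B, ?_⟩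
    rintro _ ⟨y, hy, rfl⟩ i j
    obtain ⟨x, hx, rfl⟩ := hPmap.symm ▸ hy
    have := hB _ ⟨x, hx, rfl⟩ (e.symm i) (e.symm j)
    rw [← map_inv]
    show (Matrix.reindexAlgEquiv F F e (B : Matrix ι ι F) * Matrix.reindexAlgEquiv F F e
      (x : Matrix ι ι F) * Matrix.reindexAlgEquiv F F e ((B⁻¹ : GL ι F) : Matrix ι ι F)) i j ∈ F₀
    rw [← map_mul, ← map_mul]
    exact this
  · rintro ⟨σ, f, hf, hfix⟩
    refine hno ⟨σ, fun u v => f ((coord e).symm u) ((coord e).symm v),
      ⟨hf.ne_refl, hf.involutive, fun x y v => by simp only [map_add, hf.add_left],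
        fun c x v => by simp only [map_smul, hf.smul_left], fun v w => hf.herm _ _, fun v hv => ?_⟩,
      ?_⟩
    · obtain ⟨⟨x, hx⟩, y, hy⟩ := hf.nondegenerate ((coord e).symm v) (by simpa using hv)
      exact ⟨⟨coord e x, by simpa using hx⟩, coord e y, by simpa using hy⟩
    · rintro _ ⟨y, hy, rfl⟩ u v
      obtain ⟨x, hx, rfl⟩ := hPmap.symm ▸ hy
      show f ((coord e).symm ((glReindex e x : Mat n F) *ᵥ u))
        ((coord e).symm ((glReindex e x : Mat n F) *ᵥ v)) = _
      rw [← mulVec_coord_symm, ← mulVec_coord_symm]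
      exact hfix _ ⟨x, hx, rfl⟩ _ _

/-- The maximal subgroups of `Ω(Q)` in odd prime dimension at least five. -/
theorem omega_maximal_cases [Fintype F] (hn : n.Prime) (hn5 : 5 ≤ n) (h2 : (2 : F) ≠ 0)
    (hQ : IsNondegenerateQuadraticForm Qf)
    (hrat : ∀ (F₁ : Subfield F) i j, gramMatrix (QuadraticMap.polar Qf) i j ∈ F₁)
    (e : ι ≃ Fin n) {H : Subgroup (GL ι F)} (hH : IsMaximalIn (omegaGL Qf) H) :
    (∃ W : Submodule F (ι → F), W ≠ ⊥ ∧ IsTotallySingularQuad Qf W ∧
        H = subspaceStabilizer W ⊓ omegaGL Qf) ∨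
    (∃ W : Submodule F (ι → F), W ≠ ⊥ ∧ Even (Module.finrank F W) ∧
        IsNondegenerateOn (QuadraticMap.polar Qf) W ∧
        ¬ (Fintype.card F = 3 ∧ Module.finrank F W = 2 ∧ IsPlusTypeOn Qf W) ∧
        H = subspaceStabilizer W ⊓ omegaGL Qf) ∨
    ((Fintype.card F).Prime ∧ ∃ D : Fin n → Submodule F (ι → F),
        IsOrthogonalMDecomposition Qf 1 D ∧ H = decompositionStabilizer D ⊓ omegaGL Qf) ∨
    (∃ (F₀ : Subfield F) (r : ℕ) (P : GL ι F), r.Prime ∧ Fintype.card F = Nat.card F₀ ^ r ∧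
        IsQuadFormRationalStructure Qf F₀ P ∧ H = subfieldSubgroup F₀ P ⊓ omegaGL Qf) ∨
    InOrthogonalResidualClass H := by
  classical
  set φ := (glReindex (F := F) e).toMonoidHom with hφ
  set G := (omegaGL Qf).map φ
  have hinj : Function.Injective φ := (glReindex e).injective
  have hι : 5 ≤ Fintype.card ι := by rw [Fintype.card_congr e, Fintype.card_fin]; exact hn5
  obtain ⟨Q, hQf, hQn⟩ := CfsgLib.Classical.exists_quadOf hQ
  have hQ' := qt_nondeg e hQ
  have hiso : omegaGL Qf ≤ Cfsg.isometryGroup F Qf := by rintro _ ⟨x, -, rfl⟩; exact x.2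
  have hG : G ≤ Cfsg.isometryGroup F (qt e Qf) := by
    rintro _ ⟨x, hx, rfl⟩ u v
    show Qf ((coord e).symm ((glReindex e x : Mat n F) *ᵥ u)) = Qf ((coord e).symm u)
    rw [← mulVec_coord_symm]
    exact hiso hx ((coord e).symm u) ((coord e).symm u)
  have hGsl : G ≤ specialLinear (Fin n) F := by
    rintro _ ⟨x, ⟨y, hy, rfl⟩, rfl⟩
    have h := Abelianization.commutator_subset_ker
      ((Matrix.GeneralLinearGroup.det.comp φ).comp (Cfsg.isometryGroup F Qf).subtype) hy
    exact h
  have hGirr : ActsIrreducibly (matrixSet G) := by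
    rw [irr_iff]
    intro W hW
    have h := irreducible_omega Q hQf hQn h2 hι (W.map ((coord (F := F) e).symm : (Fin n → F) →ₗ[F] (ι → F)))
      (by
        rintro g hg _ ⟨w, hw, rfl⟩
        exact ⟨(glReindex e g : Mat n F) *ᵥ w, hW _ ⟨_, ⟨g, hg, rfl⟩, rfl⟩ w hw,
          (mulVec_coord_symm e g w).symm⟩)
    rcases h with h | h
    · exact .inl (by simpa using h)
    · right
      refine Submodule.map_injective_of_injective
        (f := ((coord (F := F) e).symm : (Fin n → F) →ₗ[F] (ι → F))) (coord e).symm.injective ?_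
      rw [h, Submodule.map_top]
      exact (LinearMap.range_eq_top.mpr (coord e).symm.surjective).symm
  obtain ⟨N, hN, hN0, hroot⟩ := exists_root Q hQf hQn h2 hι
  have hd : ∀ F₁ : Subfield F, ∃ d0 ∈ F₁, ∃ s : F, (pgram (qt e Qf)).det = d0 * s ^ 2 := by
    intro F₁
    refine ⟨_, ?_, 1, by rw [one_pow, mul_one]⟩
    have hent : ∀ i j, pgram (qt e Qf) i j ∈ F₁ := fun i j => by
      have h : ∀ k : Fin n, (coord e).symm (Pi.single k (1 : F)) = Pi.single (e.symm k) 1 := fun k => by
        ext a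
        simp [coord, LinearEquiv.funCongrLeft_symm, LinearMap.funLeft, Pi.single_apply,
          ← e.eq_symm_apply]
      show QuadraticMap.polar (qt e Qf) _ _ ∈ F₁
      rw [polar_qt, h, h]
      exact hrat F₁ _ _
    rw [show pgram (qt e Qf) =
      (Matrix.of fun i j => (⟨pgram (qt e Qf) i j, hent i j⟩ : F₁)).map F₁.subtype from rfl,
      ← RingHom.mapMatrix_apply, ← RingHom.map_det]
    exact SetLike.coe_mem _
  have hmax : IsMaximalIn G (H.map φ) := by
    refine ⟨Subgroup.map_lt_map_iff_of_injective hinj |>.2 hH.1, fun M hM hMG => ?_⟩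
    have e1 : (M.comap φ).map φ = M :=
      Subgroup.map_comap_eq_self_of_surjective (glReindex e).surjective _
    rcases hH.2 (M.comap φ) (Subgroup.map_le_iff_le_comap.mp hM) (fun x hx => by
      obtain ⟨y, hy, hxy⟩ := hMG hx
      exact hinj hxy ▸ hy) with h | h
    · exact .inl (by rw [← e1, h])
    · exact .inr (by rw [← e1, h])
  have hback : ∀ (X : Subgroup (GL (Fin n) F)) (Y : Subgroup (GL ι F)),
      (∀ g, glReindex e g ∈ X ↔ g ∈ Y) → H.map φ = X ⊓ G → H = Y ⊓ omegaGL Qf := by
    intro X Y hXY h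
    ext g
    constructor
    · intro hg
      exact ⟨(hXY g).mp (h.le ⟨g, hg, rfl⟩).1, hH.1.le hg⟩
    · rintro ⟨hg, hg'⟩
      obtain ⟨y, hy, hye⟩ := h.ge ⟨(hXY g).mpr hg, ⟨g, hg', rfl⟩⟩
      exact hinj hye ▸ hy
  have hpol : ∀ U : Submodule F (Fin n → F), IsNondegenerateOn (QuadraticMap.polar (qt e Qf)) U →
      IsNondegenerateOn (QuadraticMap.polar Qf)
        (U.map ((coord (F := F) e).symm : (Fin n → F) →ₗ[F] (ι → F))) := by
    rintro U hU _ ⟨u, hu, rfl⟩ h0
    obtain ⟨⟨x, hx, hxu⟩, y, hy, hyu⟩ := hU u hu fun e0 => h0 (by rw [e0, map_zero])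
    rw [polar_qt] at hxu hyu
    exact ⟨⟨_, ⟨x, hx, rfl⟩, hxu⟩, _, ⟨y, hy, rfl⟩, hyu⟩
  rcases maximal_cases hQ' h2 hn hn5 hd hG hGsl hGirr
      (N := Matrix.reindexAlgEquiv F F e N) (by rw [← map_mul, hN, map_zero])
      (fun h => hN0 ((Matrix.reindexAlgEquiv F F e).injective (h.trans (map_zero _).symm)))
      (fun t => by
        obtain ⟨g, hg, hge⟩ := hroot t
        exact ⟨φ g, ⟨g, hg, rfl⟩, by
          show Matrix.reindexAlgEquiv F F e (g : Matrix ι ι F) = _
          rw [hge, map_add, map_one, map_smul]⟩)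
      hmax with
    ⟨U, h0, hts, h⟩ | ⟨U, h0, hev, hnd, hbad, h⟩ | ⟨hp, D, hD, h⟩ | ⟨F₀, r, P, hr, hc, hP, h⟩ | hres
  · refine .inl ⟨U.map ((coord (F := F) e).symm : (Fin n → F) →ₗ[F] (ι → F)), ?_, ?_,
      hback _ _ (fun g => mem_stab_iff e g U) h⟩
    · simpa using h0
    · rintro _ ⟨u, hu, rfl⟩; exact hts u hu
  · refine .inr (.inl ⟨U.map ((coord (F := F) e).symm : (Fin n → F) →ₗ[F] (ι → F)), by simpa using h0,
      by rwa [LinearEquiv.finrank_map_eq], hpol U hnd, ?_,
      hback _ _ (fun g => mem_stab_iff e g U) h⟩)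
    rintro ⟨h3, hd2, T, hT, hTs, hTd⟩
    rw [LinearEquiv.finrank_map_eq] at hd2
    refine hbad ⟨h3, hd2, T.map (coord (F := F) e : (ι → F) →ₗ[F] (Fin n → F)), ?_, ?_, ?_⟩
    · rintro _ ⟨w, hw, rfl⟩
      obtain ⟨u, hu, rfl⟩ := hT hw
      simpa using hu
    · rintro _ ⟨w, hw, rfl⟩
      show Qf ((coord e).symm (coord e w)) = 0
      rw [LinearEquiv.symm_apply_apply]
      exact hTs w hw
    · rw [LinearEquiv.finrank_map_eq, hTd, LinearEquiv.finrank_map_eq]
  · refine .inr (.inr (.inl ⟨hp,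
      fun i => (D i).map ((coord (F := F) e).symm : (Fin n → F) →ₗ[F] (ι → F)),
      ⟨⟨⟨hD.decomp.decomp.two_le, hD.decomp.decomp.pos, fun i => ?_, ?_, ?_⟩,
        fun i => hpol _ (hD.decomp.nondegenerate i), ?_⟩, fun i j => ?_⟩,
      hback _ _ (fun g => mem_decomp_iff e g D) h⟩))
    · rw [LinearEquiv.finrank_map_eq, hD.decomp.decomp.finrank_eq]
    · exact hD.decomp.decomp.indep.map_orderIso
        (f := Submodule.orderIsoMapComap (coord (F := F) e).symm)
    · rw [← Submodule.map_iSup, hD.decomp.decomp.iSup_eq_top, Submodule.map_top]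
      exact LinearMap.range_eq_top.mpr (coord e).symm.surjective
    · rintro i j hij _ ⟨u, hu, rfl⟩ _ ⟨v, hv, rfl⟩
      exact (polar_qt e u v).symm.trans (hD.decomp.orthogonal i j hij u hu v hv)
    · obtain ⟨f, hf⟩ := hD.isometric i j
      refine ⟨(((coord e).symm.submoduleMap (D i)).symm.trans f).trans
        ((coord e).symm.submoduleMap (D j)), ?_⟩
      intro w
      obtain ⟨w', rfl⟩ := ((coord e).symm.submoduleMap (D i)).surjective w
      simp only [LinearEquiv.trans_apply, LinearEquiv.symm_apply_apply]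
      exact hf w'
  · refine .inr (.inr (.inr (.inl ⟨F₀, r, (glReindex e).symm P, hr, hc, fun u hu => ?_,
      hback _ _ (fun g => mem_subfield_iff e g F₀ P) h⟩)))
    obtain ⟨R, rfl⟩ := (glReindex e).surjective P
    rw [MulEquiv.symm_apply_apply]
    have := hP (coord e u) fun i => hu (e.symm i)
    rw [mulVec_coord] at this
    simpa [qt] using this
  · exact .inr (.inr (.inr (.inr (residual_transport e hres))))

end CfsgLib.Classical.OrthPrime
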