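import Cfsg.Agent.Lib.Classical.OrthPrime.Transport

/-!
# The standard quadratic form in odd prime dimension
-/

set_option autoImplicit false

open QuadraticMap Cfsg Cfsg.Geo CfsgLib.Orth

namespace CfsgLib.Classical.OrthPrime

variable {F : Type*} [Field F]

theorem odd_isNondegenerate (m : ℕ) (h2 : (2 : F) ≠ 0) :
    IsNondegenerateQuadraticForm (Cfsg.quadFormOdd m F) := by
  have e : Cfsg.quadFormOdd m F = fun v => oddForm F m v := funext fun v => oddForm_apply m v
  rw [e]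
  have h := oddForm_nondeg (F := F) m h2
  refine ⟨fun c v => by rw [QuadraticMap.map_smul, smul_eq_mul, pow_two], ⟨?_, ?_, ?_, ?_⟩, ?_⟩
  · intro x y v; exact QuadraticMap.polar_add_left (oddForm F m) x y v
  · intro c x v; exact QuadraticMap.polar_smul_left (oddForm F m) c x v
  · intro v x y; exact QuadraticMap.polar_add_right (oddForm F m) v x y
  · intro c v x; exact QuadraticMap.polar_smul_right (oddForm F m) c v x
  · intro v hv
    obtain ⟨x, hx⟩ : ∃ x, QuadraticMap.polar (oddForm F m) v x ≠ 0 := by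
      by_contra hall
      push Not at hall
      exact hv (h.1 v fun x => hall x)
    exact ⟨⟨x, (QuadraticMap.polar_comm (oddForm F m) x v).trans_ne hx⟩, x, hx⟩

theorem odd_gram_mem (m : ℕ) (F₁ : Subfield F) (i j : Unit ⊕ (Fin m ⊕ Fin m)) :
    gramMatrix (QuadraticMap.polar (Cfsg.quadFormOdd m F)) i j ∈ F₁ := by
  have e : Cfsg.quadFormOdd m F = fun v => oddForm F m v := funext fun v => oddForm_apply m v
  have h01 : ∀ (a : Unit ⊕ (Fin m ⊕ Fin m)) k, (Pi.single a (1 : F) : _ → F) k ∈ F₁ := fun a k => by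
    rw [Pi.single_apply]; split <;> [exact F₁.one_mem; exact F₁.zero_mem]
  have h2m : (2 : F) ∈ F₁ := by simpa using natCast_mem F₁ 2
  rw [gramMatrix, e]
  change QuadraticMap.polar (oddForm F m) _ _ ∈ F₁
  rw [oddForm_polar]
  exact F₁.add_mem (F₁.mul_mem (F₁.mul_mem h2m (h01 _ _)) (h01 _ _))
    (F₁.sum_mem fun k _ => F₁.add_mem (F₁.mul_mem (h01 _ _) (h01 _ _))
      (F₁.mul_mem (h01 _ _) (h01 _ _)))

/-- The maximal subgroups of `Ω(2m+1, q)`, `2m+1` prime and at least five, `q` odd. -/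
theorem omega_odd_cases [Fintype F] (m n : ℕ) (hmn : n = 2 * m + 1) (hn : n.Prime) (hn5 : 5 ≤ n)
    (hodd : Odd (Fintype.card F)) {H : Subgroup (Matrix.GeneralLinearGroup (Unit ⊕ (Fin m ⊕ Fin m)) F)}
    (hH : IsMaximalIn (omegaGL (Cfsg.quadFormOdd m F)) H) :
    (∃ W : Submodule F (Unit ⊕ (Fin m ⊕ Fin m) → F), W ≠ ⊥ ∧
        IsTotallySingularQuad (Cfsg.quadFormOdd m F) W ∧
        H = subspaceStabilizer W ⊓ omegaGL (Cfsg.quadFormOdd m F)) ∨
    (∃ W : Submodule F (Unit ⊕ (Fin m ⊕ Fin m) → F), W ≠ ⊥ ∧ Even (Module.finrank F W) ∧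
        IsNondegenerateOn (QuadraticMap.polar (Cfsg.quadFormOdd m F)) W ∧
        ¬ (Fintype.card F = 3 ∧ Module.finrank F W = 2 ∧ IsPlusTypeOn (Cfsg.quadFormOdd m F) W) ∧
        H = subspaceStabilizer W ⊓ omegaGL (Cfsg.quadFormOdd m F)) ∨
    ((Fintype.card F).Prime ∧ ∃ D : Fin n → Submodule F (Unit ⊕ (Fin m ⊕ Fin m) → F),
        IsOrthogonalMDecomposition (Cfsg.quadFormOdd m F) 1 D ∧
        H = decompositionStabilizer D ⊓ omegaGL (Cfsg.quadFormOdd m F)) ∨
    (∃ (F₀ : Subfield F) (r : ℕ) (P : Matrix.GeneralLinearGroup (Unit ⊕ (Fin m ⊕ Fin m)) F),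
        r.Prime ∧ Fintype.card F = Nat.card F₀ ^ r ∧
        IsQuadFormRationalStructure (Cfsg.quadFormOdd m F) F₀ P ∧
        H = subfieldSubgroup F₀ P ⊓ omegaGL (Cfsg.quadFormOdd m F)) ∨
    InOrthogonalResidualClass H := by
  have h2 : (2 : F) ≠ 0 := by
    intro h
    haveI : CharP F 2 := CharTwo.of_one_ne_zero_of_two_eq_zero one_ne_zero h
    exact Nat.not_even_iff_odd.2 hodd
      (Nat.even_iff.2 (FiniteField.even_card_of_char_two (ringChar.eq F 2)))
  exact omega_maximal_cases hn hn5 h2 (odd_isNondegenerate m h2) (fun F₁ i j => odd_gram_mem m F₁ i j)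
    ((Fintype.equivFinOfCardEq (by simp; omega) : _ ≃ Fin n)) hH

end CfsgLib.Classical.OrthPrime
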