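import Cfsg.Agent.Lib.Classical.AschPrime.Linear
import Cfsg.Agent.Lib.Classical.HermField
import Cfsg.Agent.Lib.Classical.SubfieldMax.Member

/-!
# Rational structures of groups fixing a symmetric form

An absolutely irreducible group realised over a subfield carries the quadratic form to that
subfield; a group fixing a bilinear and a unitary form is realised over a fixed field.
-/

set_option autoImplicit false

namespace CfsgLib.Classical.OrthPrime

open Matrix Cfsg Cfsg.Geo CfsgLib.Classical.AschPrime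
open scoped MatrixGroups

variable {n : ℕ} {F : Type*} [Field F]

/-- The Gram matrix of the polar form. -/
noncomputable def pgram (Q : (Fin n → F) → F) : Mat n F := gramMatrix (QuadraticMap.polar Q)

section Form

variable {Q : (Fin n → F) → F}

theorem pgram_symm : (pgram Q)ᵀ = pgram Q :=
  Matrix.ext fun _ _ => QuadraticMap.polar_comm Q _ _

variable (hQ : IsNondegenerateQuadraticForm Q)
include hQ

theorem polar_eq (u v : Fin n → F) : QuadraticMap.polar Q u v = u ⬝ᵥ (pgram Q *ᵥ v) :=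
  (isSesq_of_bilinear hQ.polar_bilinear).apply u v

theorem two_mul_quad (v : Fin n → F) : 2 * Q v = v ⬝ᵥ (pgram Q *ᵥ v) := by
  rw [← polar_self hQ, polar_eq hQ]

theorem isUnit_pgram [Finite F] : IsUnit (pgram Q) :=
  (isSesq_of_bilinear hQ.polar_bilinear).isUnit_gram hQ.nondegenerate

theorem det_pgram_ne [Finite F] : (pgram Q).det ≠ 0 :=
  ((Matrix.isUnit_iff_isUnit_det _).mp (isUnit_pgram hQ)).ne_zero

omit hQ in
theorem polar_isometry {g : GL (Fin n) F} (hg : g ∈ Cfsg.isometryGroup F Q) (u v : Fin n → F) :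
    QuadraticMap.polar Q ((g : Mat n F) *ᵥ u) ((g : Mat n F) *ᵥ v) = QuadraticMap.polar Q u v := by
  have hg' : ∀ w, Q ((g : Mat n F) *ᵥ w) = Q w := fun w => hg w w
  simp only [QuadraticMap.polar, ← Matrix.mulVec_add, hg']

theorem gram_eq {g : GL (Fin n) F} (hg : g ∈ Cfsg.isometryGroup F Q) :
    (g : Mat n F)ᵀ * pgram Q * (g : Mat n F) = pgram Q := by
  have h := ((isSesq_of_bilinear hQ.polar_bilinear).isometry (c := 1)).mp
    fun u v => by rw [one_mul]; exact polar_isometry hg u v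
  simpa [pgram] using h

end Form

/-- A group with rational entries in some basis lies in the subfield group. -/
theorem mem_subfield_of_rat {F₁ : Subfield F} {B g : GL (Fin n) F} (hg : RatAt F₁ B g) :
    g ∈ subfieldSubgroup F₁ B⁻¹ := by
  rw [CfsgLib.Classical.SubfieldMax.mem_subfieldSubgroup_iff]
  refine ⟨1, one_ne_zero, fun a b => ?_⟩
  rw [one_mul, inv_inv]
  exact hg a b

/-- A determinant in `F₁` up to squares makes the scale of a rational Gram matrix rational up to a
square, so that a scalar multiple of the basis carries the quadratic form. -/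
theorem rational_structure [Fintype F] (hodd : Odd n) {Q : (Fin n → F) → F}
    (hQ : IsNondegenerateQuadraticForm Q) (h2 : (2 : F) ≠ 0) {F₁ : Subfield F} (B : GL (Fin n) F)
    {d0 s : F} (hd0 : d0 ∈ F₁) (hdet : (pgram Q).det = d0 * s ^ 2) {a : F} {G₀ : Mat n F}
    (hG₀ : ∀ i j, G₀ i j ∈ F₁)
    (hG : ((B⁻¹ : GL (Fin n) F) : Mat n F)ᵀ * pgram Q * ((B⁻¹ : GL (Fin n) F) : Mat n F) = a • G₀) :
    ∃ P : GL (Fin n) F, IsQuadFormRationalStructure Q F₁ P ∧
      subfieldSubgroup F₁ P = subfieldSubgroup F₁ B⁻¹ := by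
  classical
  set Bi := ((B⁻¹ : GL (Fin n) F) : Mat n F)
  obtain ⟨k, hk⟩ := hodd
  have hdetB : Bi.det ≠ 0 := ((Matrix.isUnit_iff_isUnit_det _).mp (B⁻¹).isUnit).ne_zero
  have h := congrArg Matrix.det hG
  rw [Matrix.det_mul, Matrix.det_mul, Matrix.det_transpose, Matrix.det_smul, Fintype.card_fin,
    hdet] at h
  have hs0 : d0 ≠ 0 ∧ s ≠ 0 := by
    have := det_pgram_ne hQ
    rw [hdet] at this
    exact ⟨left_ne_zero_of_mul this, fun e => this (by rw [e]; ring)⟩
  have hd1 : G₀.det ∈ F₁ := by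
    rw [show G₀ = (Matrix.of fun i j => (⟨G₀ i j, hG₀ i j⟩ : F₁)).map F₁.subtype from rfl,
      ← RingHom.mapMatrix_apply, ← RingHom.map_det]
    exact SetLike.coe_mem _
  have hlhs : Bi.det * (d0 * s ^ 2) * Bi.det ≠ 0 :=
    mul_ne_zero (mul_ne_zero hdetB (mul_ne_zero hs0.1 (pow_ne_zero _ hs0.2))) hdetB
  have ha : a ≠ 0 := fun e => hlhs (by rw [h, e, show (0:F) ^ n = 0 from zero_pow (by omega), zero_mul])
  have hG0 : G₀.det ≠ 0 := fun e => hlhs (by rw [h, e, mul_zero])
  set z := Bi.det * s / a ^ k with hz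
  have hz0 : z ≠ 0 := div_ne_zero (mul_ne_zero hdetB hs0.2) (pow_ne_zero _ ha)
  have haz : a = d0 / G₀.det * z ^ 2 := by
    rw [hz, div_pow]
    field_simp
    have hp : a ^ n = a ^ (2 * k + 1) := congrArg (a ^ ·) hk
    rw [hp] at h
    linear_combination -h
  let zu : GL (Fin n) F :=
    Units.map (Matrix.scalar (Fin n) : F →+* Mat n F).toMonoidHom (Units.mk0 z⁻¹ (inv_ne_zero hz0))
  have hzu : ∀ v, (zu : Mat n F) *ᵥ v = z⁻¹ • v := fun v => by
    show Matrix.scalar (Fin n) z⁻¹ *ᵥ v = _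
    rw [Matrix.scalar_apply, ← Matrix.smul_one_eq_diagonal, Matrix.smul_mulVec, Matrix.one_mulVec]
  refine ⟨B⁻¹ * zu, fun u hu => ?_, ?_⟩
  · set w := ((B⁻¹ * zu : GL (Fin n) F) : Mat n F) *ᵥ u
    have hw : w = z⁻¹ • (Bi *ᵥ u) := by
      simp only [w, Units.val_mul, ← Matrix.mulVec_mulVec, hzu, Matrix.mulVec_smul, Bi]
    have e : 2 * Q w = d0 / G₀.det * (u ⬝ᵥ (G₀ *ᵥ u)) := by
      rw [two_mul_quad hQ, hw, Matrix.mulVec_smul, dotProduct_smul, smul_dotProduct, smul_eq_mul,
        smul_eq_mul, Matrix.mulVec_mulVec, ← Matrix.vecMul_transpose,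
        ← Matrix.dotProduct_mulVec, Matrix.mulVec_mulVec, ← mul_assoc Biᵀ, hG, Matrix.smul_mulVec,
        dotProduct_smul, smul_eq_mul, haz]
      field_simp
    have hmem : u ⬝ᵥ (G₀ *ᵥ u) ∈ F₁ := by
      simp only [dotProduct, Matrix.mulVec]
      exact F₁.sum_mem fun i _ => F₁.mul_mem (hu i)
        (F₁.sum_mem fun j _ => F₁.mul_mem (hG₀ i j) (hu j))
    have h2m : (2 : F) ∈ F₁ := by simpa using natCast_mem F₁ 2
    rw [show Q w = (2 * Q w) / 2 by rw [mul_div_cancel_left₀ _ h2], e]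
    exact F₁.div_mem (F₁.mul_mem (F₁.div_mem hd0 hd1) hmem) h2m
  · refine SetLike.ext fun g => ?_
    rw [CfsgLib.Classical.SubfieldMax.mem_subfieldSubgroup_iff,
      CfsgLib.Classical.SubfieldMax.mem_subfieldSubgroup_iff]
    have e : (B⁻¹ * zu)⁻¹ * g * (B⁻¹ * zu) = B⁻¹⁻¹ * g * B⁻¹ := by
      have hc : ∀ x, zu * x = x * zu := fun x =>
        scalars_comm (show zu ∈ scalars (Fin n) F from ⟨_, rfl⟩) x
      rw [show (B⁻¹ * zu)⁻¹ * g * (B⁻¹ * zu) = zu⁻¹ * ((B⁻¹⁻¹ * g * B⁻¹) * zu) by group,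
        ← hc, inv_mul_cancel_left]
    rw [e]

/-- An absolutely irreducible isometry group realised over a subfield. -/
theorem descend [Fintype F] (hn : 0 < n) (hodd : Odd n) {Q : (Fin n → F) → F}
    (hQ : IsNondegenerateQuadraticForm Q) (h2 : (2 : F) ≠ 0) {F₁ : Subfield F}
    {d0 s : F} (hd0 : d0 ∈ F₁) (hdet : (pgram Q).det = d0 * s ^ 2) {S H : Subgroup (GL (Fin n) F)}
    (hS : ActsAbsolutelyIrreducibly (matrixSet S)) (hSG : S ≤ Cfsg.isometryGroup F Q)
    (hHS : ∀ h ∈ H, ∀ x ∈ S, h * x * h⁻¹ ∈ S) {B : GL (Fin n) F}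
    (hrat : ∀ x ∈ S, RatAt F₁ B x) :
    ∃ P : GL (Fin n) F, IsQuadFormRationalStructure Q F₁ P ∧ H ≤ subfieldSubgroup F₁ P := by
  classical
  set Bi := ((B⁻¹ : GL (Fin n) F) : Mat n F) with hBi
  set M := Biᵀ * pgram Q * Bi with hM
  have hMu : IsUnit M :=
    (((Matrix.isUnit_transpose _).mpr (B⁻¹).isUnit).mul (isUnit_pgram hQ)).mul (B⁻¹).isUnit
  have hfix : ∀ x ∈ S, ((B * x * B⁻¹ : GL (Fin n) F) : Mat n F)ᵀ * M *
      ((B * x * B⁻¹ : GL (Fin n) F) : Mat n F) = M := by
    intro x hx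
    have e : Bi * ((B * x * B⁻¹ : GL (Fin n) F) : Mat n F) = (x : Mat n F) * Bi := by
      rw [hBi, ← Units.val_mul, ← Units.val_mul]; congr 1; group
    calc _ = (Bi * ((B * x * B⁻¹ : GL (Fin n) F) : Mat n F))ᵀ * pgram Q *
          (Bi * ((B * x * B⁻¹ : GL (Fin n) F) : Mat n F)) := by
          rw [hM, Matrix.transpose_mul]; simp only [mul_assoc]
      _ = Biᵀ * ((x : Mat n F)ᵀ * pgram Q * (x : Mat n F)) * Bi := by
          rw [e, Matrix.transpose_mul]; simp only [mul_assoc]
      _ = M := by rw [gram_eq hQ (hSG hx)]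
  obtain ⟨τ, hτ⟩ := exists_frob_fixed F₁
  obtain ⟨Mu, hMu'⟩ := hMu
  set X := ((Mu⁻¹ : (Mat n F)ˣ) : Mat n F) * M.map τ with hX
  obtain ⟨c, hc⟩ := hS.2 (Bi * X * (B : Mat n F)) (by
    rintro _ ⟨x, hx, rfl⟩
    change Bi * X * (B : Mat n F) * (x : Mat n F) = (x : Mat n F) * (Bi * X * (B : Mat n F))
    set A := ((B * x * B⁻¹ : GL (Fin n) F) : Mat n F) with hA
    have hAτ : A.map τ = A := by ext i j; exact (hτ _).mpr (hrat x hx i j)
    have h1 : Aᵀ * M.map τ * A = M.map τ := by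
      conv_rhs => rw [← hfix x hx, Matrix.map_mul, Matrix.map_mul, Matrix.transpose_map, hAτ]
    have hcomm : X * A = A * X := by
      have hu : IsUnit (Aᵀ * M) :=
        ((Matrix.isUnit_transpose _).mpr (B * x * B⁻¹).isUnit).mul ⟨Mu, hMu'⟩
      refine hu.mul_right_injective ?_
      change Aᵀ * M * (X * A) = Aᵀ * M * (A * X)
      have hMX : M * X = M.map τ := by rw [hX, ← hMu', Units.mul_inv_cancel_left]
      calc Aᵀ * M * (X * A) = Aᵀ * (M * X) * A := by simp only [mul_assoc]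
        _ = M * X := by rw [hMX, h1]
        _ = Aᵀ * M * A * X := by rw [hfix x hx]
        _ = _ := by simp only [mul_assoc]
    have ex : (x : Mat n F) = Bi * A * (B : Mat n F) := by
      rw [hBi, hA, ← Units.val_mul, ← Units.val_mul]; congr 1; group
    rw [ex]
    simp only [mul_assoc, Bi, Units.mul_inv_cancel_left]
    rw [← mul_assoc X, hcomm, mul_assoc])
  have hXc : X = c • 1 := by
    have e := congrArg (fun Y => (B : Mat n F) * Y * Bi) hc
    simpa [mul_assoc, Bi] using e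
  have hMτ : ∀ i j, τ (M i j) = c * M i j := fun i j => by
    have e : M * X = M.map τ := by rw [hX, ← hMu', Units.mul_inv_cancel_left]
    rw [hXc, Matrix.mul_smul, mul_one] at e
    exact (congrFun (congrFun e i) j).symm
  obtain ⟨i₀, j₀, hij⟩ : ∃ i j, M i j ≠ 0 := by
    by_contra hall
    push Not at hall
    haveI : NeZero n := ⟨hn.ne'⟩
    exact (Mu.ne_zero (hMu'.trans (Matrix.ext hall)))
  have hmem : ∀ i j, (M i₀ j₀)⁻¹ * M i j ∈ F₁ := by
    intro i j
    have hc0 : c ≠ 0 := by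
      rintro rfl
      have := hMτ i₀ j₀
      rw [zero_mul, map_eq_zero] at this
      exact hij this
    rw [← hτ, map_mul, map_inv₀, hMτ, hMτ, mul_inv, mul_mul_mul_comm, inv_mul_cancel₀ hc0, one_mul]
  obtain ⟨P, hP, hPB⟩ := rational_structure hodd hQ h2 B hd0 hdet (a := M i₀ j₀)
    (G₀ := (M i₀ j₀)⁻¹ • M) hmem (by rw [smul_smul, mul_inv_cancel₀ hij, one_smul])
  exact ⟨P, hP, hPB.symm ▸ fun h hh => mem_subfieldSubgroup hn hS hrat (hHS h hh)⟩

/-- An absolutely irreducible group fixing a bilinear and a unitary form is realised over a proper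
subfield. -/
theorem realisable_of_unitary [Fintype F] (hn : 0 < n) {S : Subgroup (GL (Fin n) F)}
    (hS : ActsAbsolutelyIrreducibly (matrixSet S)) {f h : (Fin n → F) → (Fin n → F) → F}
    (hf : IsBilinearForm f) (hfn : IsNondegenerateForm f) (hfix : FixesForm (matrixSet S) f)
    {σ₁ : F ≃+* F} (hh : IsUnitaryForm σ₁ h) (hhfix : FixesForm (matrixSet S) h) :
    ∃ F₀ : Subfield F, F₀ ≠ ⊤ ∧ RealisableOver F₀ (matrixSet S) := by
  classical
  set σ : F →+* F := σ₁.toRingHom with hσdef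
  have hc : IsConjugation σ := ⟨hh.involutive, fun e => hh.ne_refl (RingEquiv.ext fun a => by
    simpa [hσdef] using congrArg (fun τ : F →+* F => τ a) e)⟩
  have hs := isSesq_of_bilinear hf
  have hsh := isSesq_of_unitary hh
  obtain ⟨Au, hAu⟩ : ∃ Au : (Mat n F)ˣ, (Au : Mat n F) = gramMatrix f := hs.isUnit_gram hfn
  obtain ⟨Hu, hHu⟩ : ∃ Hu : (Mat n F)ˣ, (Hu : Mat n F) = gramMatrix h :=
    hsh.isUnit_gram hh.nondegenerate
  set C₀ : Mat n F := ((Au⁻¹ * Hu : (Mat n F)ˣ) : Mat n F) with hC₀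
  have hcomm : ∀ s ∈ S, (s : Mat n F) * C₀ = C₀ * (s : Mat n F).map σ := by
    intro s hs'
    have h1 : (s : Mat n F)ᵀ * gramMatrix f * (s : Mat n F) = gramMatrix f := by
      have e := (hs.isometry (c := 1)).mp fun u v => by
        rw [one_mul]; exact hfix _ (mem_matrixSet hs') u v
      simpa using e
    have h2 : (s : Mat n F)ᵀ * gramMatrix h * (s : Mat n F).map σ = gramMatrix h := by
      have e := (hsh.isometry (c := 1)).mp fun u v => by
        rw [one_mul]; exact hhfix _ (mem_matrixSet hs') u v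
      simpa [hσdef] using e
    have hu : IsUnit ((s : Mat n F)ᵀ * gramMatrix f) := by
      rw [← hAu]; exact ((Matrix.isUnit_transpose _).mpr s.isUnit).mul Au.isUnit
    refine hu.mul_right_injective ?_
    change (s : Mat n F)ᵀ * gramMatrix f * _ = (s : Mat n F)ᵀ * gramMatrix f * _
    have hfC : gramMatrix f * C₀ = gramMatrix h := by
      rw [hC₀, ← hAu, ← hHu, ← Units.val_mul, mul_inv_cancel_left]
    calc (s : Mat n F)ᵀ * gramMatrix f * ((s : Mat n F) * C₀)
        = (s : Mat n F)ᵀ * gramMatrix f * (s : Mat n F) * C₀ := by simp only [mul_assoc]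
      _ = gramMatrix h := by rw [h1, hfC]
      _ = (s : Mat n F)ᵀ * gramMatrix h * (s : Mat n F).map σ := h2.symm
      _ = _ := by rw [← hfC]; simp only [mul_assoc]
  have hσσ : ∀ A : Mat n F, (A.map σ).map σ = A := fun A => by ext i j; simp [hc.invol]
  have hC₀u : IsUnit C₀ := (Au⁻¹ * Hu).isUnit
  set D := C₀ * C₀.map σ
  obtain ⟨t, ht⟩ := hS.2 D (by
    rintro _ ⟨s, hs', rfl⟩
    have e := congrArg (fun A : Mat n F => A.map σ) (hcomm s hs')
    simp only [Matrix.map_mul, hσσ] at e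
    calc D * (s : Mat n F) = C₀ * (C₀.map σ * (s : Mat n F)) := mul_assoc _ _ _
      _ = C₀ * ((s : Mat n F).map σ * C₀.map σ) := by rw [e]
      _ = (s : Mat n F) * D := by rw [← mul_assoc, ← hcomm s hs', mul_assoc])
  let i₀ : Fin n := ⟨0, hn⟩
  have hDσ : C₀.map σ * C₀ = t • 1 := by
    refine hC₀u.mul_right_injective ?_
    change C₀ * _ = C₀ * _
    rw [← mul_assoc, show C₀ * C₀.map σ = D from rfl, ht, Matrix.smul_mul, one_mul, Matrix.mul_smul,
      mul_one]
  have htσ : σ t = t := by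
    have e := congrArg (fun A : Mat n F => A.map σ) hDσ
    simp only [Matrix.map_mul, hσσ] at e
    change D = _ at e
    rw [ht] at e
    have := congrFun (congrFun e i₀) i₀
    simpa using this.symm
  have ht0 : t ≠ 0 := by
    rintro rfl
    rw [zero_smul] at ht
    haveI : NeZero n := ⟨hn.ne'⟩
    exact (hC₀u.mul (hC₀u.map (RingHom.mapMatrix σ))).ne_zero ht
  obtain ⟨b, hb⟩ := hc.exists_norm_eq (a := t⁻¹) (by rw [map_inv₀, htσ])
  set C := b • C₀
  have hCC : C * C.map σ = 1 := by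
    have : C.map σ = σ b • C₀.map σ := by ext i j; simp [C]
    rw [this, Matrix.smul_mul, Matrix.mul_smul, smul_smul, show C₀ * C₀.map σ = D from rfl, ht,
      smul_smul, hb, inv_mul_cancel₀ ht0, one_smul]
  have hCs : ∀ s ∈ S, (s : Mat n F) * C = C * (s : Mat n F).map σ := fun s hs' => by
    rw [Matrix.mul_smul, Matrix.smul_mul, hcomm s hs']
  -- the fixed vectors of `v ↦ C σ(v)` span
  let J : (Fin n → F) → (Fin n → F) := fun v => C *ᵥ (σ ∘ v)
  have hJJ : ∀ v, J (J v) = v := fun v => by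
    have e : σ ∘ (C *ᵥ (σ ∘ v)) = C.map σ *ᵥ (σ ∘ σ ∘ v) := by
      funext i; exact RingHom.map_mulVec σ C _ i
    have e2 : σ ∘ σ ∘ v = v := funext fun i => hc.invol _
    simp only [J, e, e2, Matrix.mulVec_mulVec, hCC, Matrix.one_mulVec]
  have hJadd : ∀ v w, J (v + w) = J v + J w := fun v w => by
    simp only [J]
    rw [← Matrix.mulVec_add]; congr 1; funext i; simp
  have hJsmul : ∀ (c : F) v, J (c • v) = σ c • J v := fun c v => by
    simp only [J]
    rw [← Matrix.mulVec_smul]; congr 1; funext i; simp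
  set E : Set (Fin n → F) := {v | J v = v}
  have hspan : Submodule.span F E = ⊤ := by
    refine eq_top_iff.mpr fun v _ => ?_
    obtain ⟨a, ha⟩ := hc.exists_not_fixed
    have h1 : v + J v ∈ Submodule.span F E :=
      Submodule.subset_span (show J (v + J v) = v + J v by rw [hJadd, hJJ, add_comm])
    have h2 : a • v + J (a • v) ∈ Submodule.span F E :=
      Submodule.subset_span (show J _ = _ by rw [hJadd, hJJ, add_comm])
    have h3 := Submodule.sub_mem _ h2 (Submodule.smul_mem _ (σ a) h1)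
    rw [hJsmul, smul_add, add_sub_add_right_eq_sub, ← sub_smul] at h3
    have := Submodule.smul_mem _ (a - σ a)⁻¹ h3
    rwa [smul_smul, inv_mul_cancel₀ (sub_ne_zero.mpr (Ne.symm ha)), one_smul] at this
  obtain ⟨Bs, hBE, hBspan, hBli⟩ := exists_linearIndependent F E
  haveI : Fintype Bs := (hBli.setFinite).fintype
  let b0 : Module.Basis Bs F (Fin n → F) := Module.Basis.mk hBli (by
    rw [Subtype.range_coe, hBspan, hspan])
  have hBcard : Fintype.card Bs = n := by
    have := Module.finrank_eq_card_basis b0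
    rw [Module.finrank_fintype_fun_eq_card, Fintype.card_fin] at this
    exact this.symm
  let col : Fin n → (Fin n → F) := fun i => ((Fintype.equivFinOfCardEq hBcard).symm i).1
  have hcol : LinearIndependent F col :=
    hBli.comp _ (Fintype.equivFinOfCardEq hBcard).symm.injective
  let P : Mat n F := Matrix.of fun i j => col j i
  obtain ⟨Pu, hPu⟩ : IsUnit P := by
    rw [← Matrix.linearIndependent_cols_iff_isUnit]; exact hcol
  have hCP : C * P.map σ = P := by
    ext i j
    exact congrFun (show J (col j) = col j from hBE ((Fintype.equivFinOfCardEq hBcard).symm j).2) i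
  refine ⟨RingHom.eqLocusField σ (RingHom.id F), fun htop => ?_,
    realisableOver_iff.mpr ⟨Pu⁻¹, fun s hs' i j => ?_⟩⟩
  · obtain ⟨a, ha⟩ := hc.exists_not_fixed
    have e : a ∈ RingHom.eqLocusField σ (RingHom.id F) := htop ▸ Subfield.mem_top a
    exact ha e
  · change σ _ = _
    set X := ((Pu⁻¹ * s * Pu⁻¹⁻¹ : GL (Fin n) F) : Mat n F) with hX
    suffices e : X.map σ = X from congrFun (congrFun e i) j
    have hP1 : P * X = (s : Mat n F) * P := by
      rw [hX, inv_inv, Units.val_mul, Units.val_mul, ← hPu, mul_assoc, Units.mul_inv_cancel_left]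
    refine Pu.isUnit.mul_right_injective ?_
    change (Pu : Mat n F) * _ = (Pu : Mat n F) * _
    rw [hPu]
    calc P * X.map σ = C * P.map σ * X.map σ := by rw [hCP]
      _ = C * (P * X).map σ := by rw [Matrix.map_mul, mul_assoc]
      _ = (s : Mat n F) * (C * P.map σ) := by
        rw [hP1, Matrix.map_mul, ← mul_assoc, ← hCs s hs', mul_assoc]
      _ = P * X := by rw [hCP, hP1]

end CfsgLib.Classical.OrthPrime
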