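import Cfsg.Agent.Lib.Classical.OrthPrime.Descent

/-!
# No normaliser of an extension field in odd prime dimension

An isometry group of a symmetric form whose commutant is a field of odd degree consists of scalars.
-/

set_option autoImplicit false

namespace CfsgLib.Classical.OrthPrime

open Matrix Cfsg Cfsg.Geo CfsgLib.Classical.AschPrime
open scoped MatrixGroups

variable {n : ℕ} {F : Type*} [Field F]

theorem le_scalars_of_field [Fintype F] (hn : n.Prime) (hodd : Odd n) {Q : (Fin n → F) → F}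
    (hQ : IsNondegenerateQuadraticForm Q) (h2 : (2 : F) ≠ 0) {N : Subgroup (GL (Fin n) F)}
    (hN : N ≤ Cfsg.isometryGroup F Q) (hirr : ActsIrreducibly (matrixSet N))
    (hne : ¬ ∀ M : Mat n F, (∀ s ∈ matrixSet N, M * s = s * M) → ∃ c : F, M = c • 1) :
    N ≤ scalars (Fin n) F := by
  classical
  have hK := commutant_field hn hirr hne
  set K := Subalgebra.centralizer F (matrixSet N)
  obtain ⟨Au, hAu⟩ : ∃ Au : (Mat n F)ˣ, (Au : Mat n F) = pgram Q := isUnit_pgram hQ
  set A := pgram Q
  set Ai : Mat n F := ((Au⁻¹ : (Mat n F)ˣ) : Mat n F) with hAi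
  have hAA : A * Ai = 1 := by rw [← hAu]; exact Au.mul_inv
  have hAiA : Ai * A = 1 := by rw [← hAu]; exact Au.inv_mul
  -- the adjoint
  let adj : Mat n F →ₗ[F] Mat n F :=
    { toFun := fun k => Ai * kᵀ * A
      map_add' := fun a b => by simp [Matrix.transpose_add, mul_add, add_mul]
      map_smul' := fun c a => by simp [Matrix.transpose_smul] }
  have hadjmul : ∀ a b, adj (a * b) = adj b * adj a := fun a b => by
    show Ai * (a * b)ᵀ * A = Ai * bᵀ * A * (Ai * aᵀ * A)
    rw [Matrix.transpose_mul,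
      show Ai * bᵀ * A * (Ai * aᵀ * A) = Ai * bᵀ * (A * Ai) * aᵀ * A by simp only [mul_assoc],
      hAA, mul_one]
    simp only [mul_assoc]
  have hsymm : Aᵀ = A := pgram_symm
  have hAisymm : Aiᵀ = Ai := by
    have h := congrArg Matrix.transpose hAA
    rw [Matrix.transpose_mul, Matrix.transpose_one, hsymm] at h
    calc Aiᵀ = Aiᵀ * (A * Ai) := by rw [hAA, mul_one]
      _ = Ai := by rw [← mul_assoc, h, one_mul]
  have hadj2 : ∀ a, adj (adj a) = a := fun a => by
    show Ai * (Ai * aᵀ * A)ᵀ * A = a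
    rw [Matrix.transpose_mul, Matrix.transpose_mul, Matrix.transpose_transpose, hsymm, hAisymm,
      show Ai * (A * (a * Ai)) * A = (Ai * A) * a * (Ai * A) by simp only [mul_assoc], hAiA, one_mul,
      mul_one]
  -- adjoints of isometries
  have hiso : ∀ x ∈ N, adj (x : Mat n F) = ((x⁻¹ : GL (Fin n) F) : Mat n F) := by
    intro x hx
    show Ai * (x : Mat n F)ᵀ * A = _
    refine x.isUnit.mul_left_injective ?_
    change Ai * _ * A * (x : Mat n F) = _ * (x : Mat n F)
    rw [Units.inv_mul, show Ai * (x : Mat n F)ᵀ * A * (x : Mat n F) =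
      Ai * ((x : Mat n F)ᵀ * A * (x : Mat n F)) by simp only [mul_assoc], gram_eq hQ (hN hx), hAiA]
  have hKmem : ∀ k, k ∈ K ↔ ∀ x ∈ N, (x : Mat n F) * k = k * (x : Mat n F) := fun k => by
    rw [Subalgebra.mem_centralizer_iff]
    exact ⟨fun h x hx => h _ (mem_matrixSet hx), fun h => by rintro _ ⟨x, hx, rfl⟩; exact h x hx⟩
  have hadjK : ∀ k ∈ K, adj k ∈ K := by
    intro k hk
    rw [hKmem] at hk ⊢
    intro x hx
    have h := congrArg adj (hk x⁻¹ (N.inv_mem hx))
    rw [hadjmul, hadjmul, hiso _ (N.inv_mem hx), inv_inv] at h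
    exact h.symm
  -- `K` has no non-zero skew element
  let P : Submodule F (Mat n F) := K.toSubmodule ⊓ LinearMap.ker (adj - LinearMap.id)
  let M : Submodule F (Mat n F) := K.toSubmodule ⊓ LinearMap.ker (adj + LinearMap.id)
  have hPmem : ∀ k, k ∈ P ↔ k ∈ K ∧ adj k = k := fun k => by
    simp [P, LinearMap.mem_ker, sub_eq_zero]
  have hMmem : ∀ k, k ∈ M ↔ k ∈ K ∧ adj k = -k := fun k => by
    simp [M, LinearMap.mem_ker, add_eq_zero_iff_eq_neg]
  have hM : M = ⊥ := by
    by_contra hbot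
    obtain ⟨y, hy, hy0⟩ := Submodule.exists_mem_ne_zero_of_ne_bot hbot
    obtain ⟨hyK, hyadj⟩ := (hMmem y).mp hy
    obtain ⟨yi, -, hyy⟩ := hK.inv y hyK hy0
    have hyu : IsUnit y := IsUnit.of_mul_eq_one _ hyy
    have hinj : Function.Injective (LinearMap.mulLeft F y) := fun a b h =>
      hyu.mul_right_injective h
    have hle1 : P.map (LinearMap.mulLeft F y) ≤ M := by
      rintro _ ⟨k, hk, rfl⟩
      obtain ⟨hkK, hkadj⟩ := (hPmem k).mp hk
      refine (hMmem _).mpr ⟨K.mul_mem hyK hkK, ?_⟩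
      show adj (y * k) = -(y * k)
      rw [hadjmul, hkadj, hyadj, mul_neg, hK.comm k hkK y hyK]
    have hle2 : M.map (LinearMap.mulLeft F y) ≤ P := by
      rintro _ ⟨k, hk, rfl⟩
      obtain ⟨hkK, hkadj⟩ := (hMmem k).mp hk
      refine (hPmem _).mpr ⟨K.mul_mem hyK hkK, ?_⟩
      show adj (y * k) = y * k
      rw [hadjmul, hkadj, hyadj, neg_mul_neg, hK.comm k hkK y hyK]
    have h1 := Submodule.finrank_mono hle1
    have h3 := Submodule.finrank_mono hle2
    rw [← ((Submodule.equivMapOfInjective _ hinj P).finrank_eq)] at h1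
    rw [← ((Submodule.equivMapOfInjective _ hinj M).finrank_eq)] at h3
    have hsup : P ⊔ M = K.toSubmodule := by
      refine le_antisymm (sup_le inf_le_left inf_le_left) fun k hk => ?_
      have hk' : k ∈ K := hk
      have h22 : (2 : F)⁻¹ + (2 : F)⁻¹ = 1 := by rw [← two_mul, mul_inv_cancel₀ h2]
      have e : k = (2 : F)⁻¹ • (k + adj k) + (2 : F)⁻¹ • (k - adj k) := by
        rw [← smul_add, show k + adj k + (k - adj k) = k + k by abel, smul_add, ← add_smul, h22,
          one_smul]
      rw [e]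
      refine Submodule.add_mem_sup (P.smul_mem _ ((hPmem _).mpr
        ⟨K.add_mem hk' (hadjK k hk'), ?_⟩)) (M.smul_mem _ ((hMmem _).mpr
        ⟨K.sub_mem hk' (hadjK k hk'), ?_⟩))
      · rw [map_add, hadj2, add_comm]
      · rw [map_sub, hadj2, neg_sub]
    have hinf : P ⊓ M = ⊥ := by
      rw [Submodule.eq_bot_iff]
      intro k hk
      have e := ((hPmem k).mp hk.1).2.symm.trans ((hMmem k).mp hk.2).2
      have : (2 : F) • k = 0 := by rw [two_smul]; nth_rewrite 1 [e]; exact neg_add_cancel k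
      exact (smul_eq_zero.mp this).resolve_left h2
    have hsum := Submodule.finrank_sup_add_finrank_inf_eq P M
    rw [hsup, hinf, finrank_bot, add_zero] at hsum
    have hKn : Module.finrank F P + Module.finrank F M = n := hsum.symm.trans hK.finrank_eq
    obtain ⟨j, hj⟩ := hodd
    omega
  have hfixed : ∀ k ∈ K, adj k = k := by
    intro k hk
    have h : k - adj k ∈ M := (hMmem _).mpr ⟨K.sub_mem hk (hadjK k hk), by
      rw [map_sub, hadj2, neg_sub]⟩
    rw [hM, Submodule.mem_bot, sub_eq_zero] at h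
    exact h.symm
  intro x hx
  have hxK : (x : Mat n F) ∈ K := field_commutant hn.pos hK fun k hk => (hKmem k).mp hk x hx
  have hsq : (x : Mat n F) * (x : Mat n F) = 1 := by
    nth_rewrite 2 [← hfixed _ hxK]
    rw [hiso x hx, Units.mul_inv]
  by_cases h1 : (x : Mat n F) - 1 = 0
  · exact mem_scalars_of_eq hn.pos (c := 1) (by rw [one_smul]; exact sub_eq_zero.mp h1)
  obtain ⟨yi, hyi, hyy⟩ := hK.inv _ (K.sub_mem hxK K.one_mem) h1
  refine mem_scalars_of_eq hn.pos (c := -1) ?_
  have hz : ((x : Mat n F) - 1) * ((x : Mat n F) + 1) = 0 := by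
    rw [sub_mul, mul_add, hsq, mul_one, one_mul]; abel
  have hu : IsUnit ((x : Mat n F) - 1) := IsUnit.of_mul_eq_one _ hyy
  have := hu.mul_right_eq_zero.mp hz
  rw [neg_smul, one_smul]
  exact eq_neg_of_add_eq_zero_left this

end CfsgLib.Classical.OrthPrime
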